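import Groth.Agent.Lib.Semiab15.FinField
import Groth.Agent.Lib.FEtLimit25.Field
import Groth.Agent.Lib.SpreadSub19.Basic
import Groth.Agent.Lib.MTExt29.Comm
import Groth.Agent.S0591

/-!
# Models of algebraic groups over finite subfields
-/

set_option autoImplicit false
set_option maxSynthPendingDepth 3
set_option backward.isDefEq.respectTransparency false
set_option backward.isDefEq.respectTransparency.types false

universe u

open CategoryTheory CategoryTheory.Limits MonoidalCategory CartesianMonoidalCategory MonObj GrpObj AlgebraicGeometry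

noncomputable section

namespace Groth.Agent.Semiab15

theorem exists_hom_field_snd (k K : Type u) [Field k] [Field K] [Algebra k K] [Algebra.IsIntegral k K]
    {X : Scheme.{u}} (f : X ⟶ Spec (CommRingCat.of k)) [CompactSpace ↥X] [QuasiSeparatedSpace ↥X]
    {W : Scheme.{u}} (w : W ⟶ X) [LocallyOfFinitePresentation w]
    (σ : pullback f (Spec.map (CommRingCat.ofHom (algebraMap k K))) ⟶ W)
    (hσ : σ ≫ w = pullback.fst f (Spec.map (CommRingCat.ofHom (algebraMap k K)))) :
    ∃ (L : IntermediateField k K) (_ : FiniteDimensional k ↥L)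
      (τ : pullback f (Spec.map (CommRingCat.ofHom (algebraMap k ↥L))) ⟶ W)
      (c : pullback f (Spec.map (CommRingCat.ofHom (algebraMap k K))) ⟶ pullback f (Spec.map (CommRingCat.ofHom (algebraMap k ↥L)))),
      c ≫ pullback.fst f (Spec.map (CommRingCat.ofHom (algebraMap k ↥L))) = pullback.fst f (Spec.map (CommRingCat.ofHom (algebraMap k K))) ∧
      τ ≫ w = pullback.fst f (Spec.map (CommRingCat.ofHom (algebraMap k ↥L))) ∧ c ≫ τ = σ ∧
      c ≫ pullback.snd f (Spec.map (CommRingCat.ofHom (algebraMap k ↥L))) = pullback.snd f (Spec.map (CommRingCat.ofHom (algebraMap k K))) ≫ Spec.map (CommRingCat.ofHom (algebraMap ↥L K)) := by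
  let D : (AlgColimH13.Idx k K)ᵒᵖ ⥤ Scheme.{u} := (AlgColimH13.ringDiag k K).op ⋙ Scheme.Spec
  let t : D ⟶ (Functor.const _).obj (Spec (CommRingCat.of k)) :=
    { app := fun i => Spec.map (AlgColimH13.str k K i.unop)
      naturality := fun i j a => by
        show Spec.map ((AlgColimH13.ringDiag k K).map a.unop) ≫ Spec.map (AlgColimH13.str k K j.unop) =
          Spec.map (AlgColimH13.str k K i.unop) ≫ 𝟙 _
        rw [← Spec.map_comp, AlgColimH13.str_map, Category.comp_id] }
  let c₀ : Cone D := { pt := Spec (CommRingCat.of K)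
                       π := { app := fun i => Spec.map (AlgColimH13.proj k K i.unop)
                              naturality := fun i j a => by
                                show 𝟙 _ ≫ Spec.map (AlgColimH13.proj k K j.unop) =
                                  Spec.map (AlgColimH13.proj k K i.unop) ≫ Spec.map ((AlgColimH13.ringDiag k K).map a.unop)
                                rw [Category.id_comp, ← Spec.map_comp, AlgColimH13.map_proj] } }
  have hc₀ : IsLimit c₀ := (IsLimit.equivIsoLimit (Cone.ext (Iso.refl _) fun i => (Category.id_comp _).symm))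
    (isLimitOfPreserves Scheme.Spec (AlgColimH13.ringIsColimit k K).op)
  haveI : ∀ i, IsAffineHom (t.app i) := fun i => inferInstanceAs (IsAffineHom (Spec.map (AlgColimH13.str k K i.unop)))
  have hq : ∀ i, c₀.π.app i ≫ t.app i = Spec.map (CommRingCat.ofHom (algebraMap k K)) := fun i => by
    show Spec.map _ ≫ Spec.map _ = _
    rw [← Spec.map_comp, AlgColimH13.str_proj]
  have hP := IsPullback.of_hasPullback f (Spec.map (CommRingCat.ofHom (algebraMap k K)))
  let E := Descend.pbDiagram D t f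
  let e := Descend.pbCone D t f c₀ hq hP
  have he : IsLimit e := Descend.pbIsLimit D t f c₀ hq hP hc₀
  haveI : ∀ (i j : (AlgColimH13.Idx k K)ᵒᵖ) (a : i ⟶ j), IsAffineHom (E.map a) := fun i j a =>
    MorphismProperty.of_isPullback (P := @IsAffineHom) (Descend.pbMap_isPullback D t f a).flip
      (isAffineHom_of_isAffine (Spec.map ((AlgColimH13.ringDiag k K).map a.unop)))
  haveI : ∀ i, CompactSpace (E.obj i) := fun i =>
    haveI : IsAffineHom (pullback.fst f (t.app i)) := MorphismProperty.pullback_fst _ _ inferInstance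
    QuasiCompact.compactSpace_of_compactSpace (pullback.fst f (t.app i))
  haveI : ∀ i, QuasiSeparatedSpace (E.obj i) := fun i =>
    haveI : IsAffineHom (pullback.fst f (t.app i)) := MorphismProperty.pullback_fst _ _ inferInstance
    quasiSeparatedSpace_of_quasiSeparated (pullback.fst f (t.app i))
  obtain ⟨i, s, hs, hsw⟩ := Scheme.exists_π_app_comp_eq_of_locallyOfFinitePresentation E (Descend.pbFst D t f) w e he σ (by
    ext j
    show e.π.app j ≫ pullback.fst f (t.app j) = σ ≫ w
    rw [hσ]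
    exact Descend.pbCone_fst D t f c₀ hq hP j)
  obtain ⟨L, hL, r, hr⟩ := FEtLimit25.exists_field_of_idx k K i.unop
  let sL := Spec.map (CommRingCat.ofHom (algebraMap k L))
  have hsL : sL = Spec.map (CommRingCat.ofHom r.toRingHom) ≫ t.app i := by
    show Spec.map _ = Spec.map _ ≫ Spec.map (AlgColimH13.str k K i.unop)
    rw [← Spec.map_comp]
    exact congrArg Spec.map (CommRingCat.hom_ext (RingHom.ext fun a => (r.commutes a).symm))
  let b : pullback f sL ⟶ E.obj i := pullback.lift (pullback.fst f sL)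
    (pullback.snd f sL ≫ Spec.map (CommRingCat.ofHom r.toRingHom)) (by
      exact (pullback.condition.trans (congrArg (pullback.snd f sL ≫ ·) hsL)).trans (Category.assoc _ _ _).symm)
  have hwc : pullback.fst f (Spec.map (CommRingCat.ofHom (algebraMap k K))) ≫ f =
      (pullback.snd f (Spec.map (CommRingCat.ofHom (algebraMap k K))) ≫
        Spec.map (CommRingCat.ofHom (algebraMap L K))) ≫ sL := by
    rw [Category.assoc, pullback.condition, ← Spec.map_comp]
    rfl
  let c : pullback f (Spec.map (CommRingCat.ofHom (algebraMap k K))) ⟶ pullback f sL := pullback.lift _ _ hwc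
  have hcb : c ≫ b = e.π.app i := by
    refine pullback.hom_ext ?_ ?_
    · exact ((Category.assoc _ _ _).trans ((congrArg (c ≫ ·) (pullback.lift_fst _ _ _)).trans
        (pullback.lift_fst _ _ _))).trans (Descend.pbCone_fst D t f c₀ hq hP i).symm
    · refine ((Category.assoc _ _ _).trans ((congrArg (c ≫ ·) (pullback.lift_snd _ _ _)).trans ?_)).trans
        (Descend.pbCone_snd D t f c₀ hq hP i).symm
      refine (pullback.lift_snd_assoc _ _ _ _).trans ?_
      rw [Category.assoc, ← Spec.map_comp]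
      exact congrArg (fun q => pullback.snd f _ ≫ Spec.map q) (CommRingCat.hom_ext (RingHom.ext hr))
  refine ⟨L, hL, b ≫ s, c, pullback.lift_fst _ _ _, ?_, ?_, pullback.lift_snd _ _ _⟩
  · exact (Category.assoc _ _ _).trans ((congrArg (b ≫ ·) hsw).trans (pullback.lift_fst _ _ _))
  · exact (Category.assoc _ _ _).symm.trans ((congrArg (· ≫ s) hcb).trans hs)

/-- A finitely presented scheme over an algebraic extension is defined over a finite subextension. -/
theorem exists_model_scheme (k K : Type u) [Field k] [Field K] [Algebra k K] [Algebra.IsIntegral k K]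
    (G : Over (Spec (CommRingCat.of K))) [LocallyOfFinitePresentation G.hom] [QuasiCompact G.hom]
    [QuasiSeparated G.hom] :
    ∃ (L : IntermediateField k K) (_ : FiniteDimensional k L) (G₀ : Over (Spec (CommRingCat.of L))),
      LocallyOfFinitePresentation G₀.hom ∧ QuasiCompact G₀.hom ∧ QuasiSeparated G₀.hom ∧
      Nonempty (Red.bc (Spec.map (CommRingCat.ofHom (algebraMap L K))) G₀ ≅ G) := by
  let D : (AlgColimH13.Idx k K)ᵒᵖ ⥤ Scheme.{u} := (AlgColimH13.ringDiag k K).op ⋙ Scheme.Spec
  let c₀ : Cone D := { pt := Spec (CommRingCat.of K)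
                       π := { app := fun i => Spec.map (AlgColimH13.proj k K i.unop)
                              naturality := fun i j a => by
                                show 𝟙 _ ≫ Spec.map (AlgColimH13.proj k K j.unop) =
                                  Spec.map (AlgColimH13.proj k K i.unop) ≫ Spec.map ((AlgColimH13.ringDiag k K).map a.unop)
                                rw [Category.id_comp, ← Spec.map_comp, AlgColimH13.map_proj] } }
  have hc₀ : IsLimit c₀ := (IsLimit.equivIsoLimit (Cone.ext (Iso.refl _) fun i => (Category.id_comp _).symm))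
    (isLimitOfPreserves Scheme.Spec (AlgColimH13.ringIsColimit k K).op)
  haveI : ∀ (i j : (AlgColimH13.Idx k K)ᵒᵖ) (a : i ⟶ j), IsAffineHom (D.map a) := fun i j a =>
    isAffineHom_of_isAffine (Spec.map ((AlgColimH13.ringDiag k K).map a.unop))
  haveI : ∀ i, CompactSpace (D.obj i) := fun i => inferInstanceAs (CompactSpace (Spec _))
  haveI : ∀ i, QuasiSeparatedSpace (D.obj i) := fun i => inferInstanceAs (QuasiSeparatedSpace (Spec _))
  obtain ⟨i, Xi, fi, g, h1, h2, h3, hsq⟩ := S0591.result D c₀ hc₀ G.left G.hom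
  haveI := h1; haveI := h2; haveI := h3
  obtain ⟨L, hL, r, hr⟩ := FEtLimit25.exists_field_of_idx k K i.unop
  let ρ : Spec (CommRingCat.of L) ⟶ D.obj i := Spec.map (CommRingCat.ofHom r.toRingHom)
  let φ := Spec.map (CommRingCat.ofHom (algebraMap L K))
  have hπ : φ ≫ ρ = c₀.π.app i := by
    show Spec.map _ ≫ Spec.map _ = Spec.map _
    rw [← Spec.map_comp]
    exact congrArg Spec.map (CommRingCat.hom_ext (RingHom.ext hr))
  let G₀ : Over (Spec (CommRingCat.of L)) := Over.mk (pullback.snd fi ρ)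
  haveI : LocallyOfFinitePresentation G₀.hom := inferInstanceAs (LocallyOfFinitePresentation (pullback.snd fi ρ))
  haveI : QuasiCompact G₀.hom := inferInstanceAs (QuasiCompact (pullback.snd fi ρ))
  haveI : QuasiSeparated G₀.hom := inferInstanceAs (QuasiSeparated (pullback.snd fi ρ))
  let t : G.left ⟶ G₀.left := pullback.lift g (G.hom ≫ φ) (by rw [Category.assoc, hπ]; exact hsq.w)
  have hsq' : IsPullback t G.hom G₀.hom φ := by
    refine IsPullback.of_right ?_ (pullback.lift_snd _ _ _) (IsPullback.of_hasPullback fi ρ)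
    rw [pullback.lift_fst, hπ]
    exact hsq
  exact ⟨L, hL, G₀, inferInstance, inferInstance, inferInstance,
    ⟨(Over.isoMk hsq'.isoPullback hsq'.isoPullback_hom_snd).symm⟩⟩

/-- A morphism over an algebraic extension is defined over a finite subextension. -/
theorem exists_model_hom (k K : Type u) [Field k] [Field K] [Algebra k K] [Algebra.IsIntegral k K]
    {Z W : Over (Spec (CommRingCat.of k))} [QuasiCompact Z.hom] [QuasiSeparated Z.hom]
    [LocallyOfFinitePresentation W.hom]
    (y : Red.bc (Spec.map (CommRingCat.ofHom (algebraMap k K))) Z ⟶ Red.bc (Spec.map (CommRingCat.ofHom (algebraMap k K))) W) :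
    ∃ (L : IntermediateField k K) (_ : FiniteDimensional k L)
      (h : Spec.map (CommRingCat.ofHom (algebraMap L K)) ≫ Spec.map (CommRingCat.ofHom (algebraMap k L)) =
        Spec.map (CommRingCat.ofHom (algebraMap k K)))
      (z : Red.bc (Spec.map (CommRingCat.ofHom (algebraMap k L))) Z ⟶ Red.bc (Spec.map (CommRingCat.ofHom (algebraMap k L))) W),
      (Over.pullback (Spec.map (CommRingCat.ofHom (algebraMap L K)))).map z ≫ (SpreadSub19.bcComp _ _ h W).hom =
        (SpreadSub19.bcComp _ _ h Z).hom ≫ y := by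
  let φ := Spec.map (CommRingCat.ofHom (algebraMap k K))
  haveI : CompactSpace Z.left := QuasiCompact.compactSpace_of_compactSpace Z.hom
  haveI : QuasiSeparatedSpace Z.left := quasiSeparatedSpace_of_quasiSeparated Z.hom
  have hy : (y.left ≫ pullback.fst W.hom φ) ≫ W.hom = pullback.fst Z.hom φ ≫ Z.hom := by
    rw [Category.assoc, pullback.condition, pullback.condition, ← Category.assoc]
    exact congrArg (· ≫ φ) (Over.w y)
  let σ : pullback Z.hom φ ⟶ pullback Z.hom W.hom := pullback.lift (pullback.fst Z.hom φ) (y.left ≫ pullback.fst W.hom φ) hy.symm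
  obtain ⟨L, hL, τ, c, hc1, hτ, hcτ, hc2⟩ := exists_hom_field_snd k K Z.hom (pullback.fst Z.hom W.hom) σ
    (pullback.lift_fst _ _ _)
  have h : Spec.map (CommRingCat.ofHom (algebraMap L K)) ≫ Spec.map (CommRingCat.ofHom (algebraMap k L)) = φ := by
    rw [← Spec.map_comp]; rfl
  let φL := Spec.map (CommRingCat.ofHom (algebraMap k L))
  let z : Red.bc φL Z ⟶ Red.bc φL W := Over.homMk
    (pullback.lift (τ ≫ pullback.snd Z.hom W.hom) (pullback.snd Z.hom φL) (by
      rw [Category.assoc, ← pullback.condition, ← Category.assoc, hτ, pullback.condition]))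
    (pullback.lift_snd _ _ _)
  refine ⟨L, hL, h, z, ?_⟩
  have hb : (SpreadSub19.bcComp _ _ h Z).hom.left ≫ c = pullback.fst (Red.bc φL Z).hom _ := by
    refine pullback.hom_ext ?_ ?_
    · rw [Category.assoc, hc1]
      exact SpreadSub19.bcComp_fst _ _ h Z
    · rw [Category.assoc, hc2, ← Category.assoc]
      exact (congrArg (· ≫ _) (Over.w (SpreadSub19.bcComp _ _ h Z).hom)).trans pullback.condition.symm
  ext1
  refine pullback.hom_ext ?_ ?_
  · simp only [Over.comp_left, Category.assoc]
    rw [SpreadSub19.bcComp_fst]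
    show pullback.lift _ _ _ ≫ _ = _
    rw [pullback.lift_fst_assoc]
    rw [show (SpreadSub19.bcComp _ _ h Z).hom.left ≫ y.left ≫ pullback.fst W.hom φ =
      (SpreadSub19.bcComp _ _ h Z).hom.left ≫ σ ≫ pullback.snd Z.hom W.hom from by rw [pullback.lift_snd], ← hcτ]
    rw [Category.assoc c, reassoc_of% hb, Category.assoc]
    congr 1
    exact pullback.lift_fst _ _ _
  · exact (Over.w ((Over.pullback _).map z ≫ (SpreadSub19.bcComp _ _ h W).hom)).trans
      (Over.w ((SpreadSub19.bcComp _ _ h Z).hom ≫ y)).symm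

/-- A group structure pulled back along a faithful functor. -/
def grpObjOfFaithful {C D : Type*} [Category C] [CartesianMonoidalCategory C] [Category D]
    [CartesianMonoidalCategory D] (P : C ⥤ D) [P.Faithful] {X : C} {G : D} [GrpObj G] (e : P.obj X ≅ G)
    (o : 𝟙_ C ⟶ X) (ho : P.map o ≫ e.hom = 1)
    (m : X ⊗ X ⟶ X) (hm : P.map m ≫ e.hom = (P.map (fst X X) ≫ e.hom) * (P.map (snd X X) ≫ e.hom))
    (v : X ⟶ X) (hv : P.map v ≫ e.hom = e.hom⁻¹) : GrpObj X := by
  have inj : ∀ {W : C} (a b : W ⟶ X), P.map a ≫ e.hom = P.map b ≫ e.hom → a = b := fun a b h =>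
    P.map_injective ((cancel_mono e.hom).1 h)
  have hmul : ∀ {W : C} (a b : W ⟶ X), P.map (lift a b ≫ m) ≫ e.hom = (P.map a ≫ e.hom) * (P.map b ≫ e.hom) := by
    intro W a b
    rw [P.map_comp, Category.assoc, hm, MonObj.comp_mul, ← Category.assoc, ← Category.assoc, ← P.map_comp,
      ← P.map_comp, lift_fst, lift_snd]
  have hone : ∀ {W : C} (t : W ⟶ 𝟙_ C), P.map (t ≫ o) ≫ e.hom = 1 := by
    intro W t
    rw [P.map_comp, Category.assoc, ho, MonObj.comp_one]
  have hm' : ∀ {W : C} (a : W ⟶ X ⊗ X), a ≫ m = lift (a ≫ fst X X) (a ≫ snd X X) ≫ m := fun a => by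
    rw [← comp_lift, lift_fst_snd, Category.comp_id]
  exact
    { one := o
      mul := m
      inv := v
      one_mul := inj _ _ (by
        rw [hm', hmul, whiskerRight_fst, whiskerRight_snd, hone, _root_.one_mul, leftUnitor_hom])
      mul_one := inj _ _ (by
        rw [hm', hmul, whiskerLeft_fst, whiskerLeft_snd, hone, _root_.mul_one, rightUnitor_hom])
      mul_assoc := inj _ _ (by
        rw [hm', hmul, whiskerRight_fst, whiskerRight_snd, hm' (fst (X ⊗ X) X), hmul, ← Category.assoc,
          hm' ((α_ X X X).hom ≫ X ◁ m), hmul, Category.assoc, whiskerLeft_fst, Category.assoc, whiskerLeft_snd,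
          ← Category.assoc, hm' ((α_ X X X).hom ≫ snd X (X ⊗ X)), hmul, associator_hom_fst, Category.assoc,
          Category.assoc, associator_hom_snd_fst, associator_hom_snd_snd, _root_.mul_assoc])
      left_inv := inj _ _ (by
        rw [hmul, hv, hone, P.map_id, Category.id_comp, inv_mul_cancel])
      right_inv := inj _ _ (by
        rw [hmul, hv, hone, P.map_id, Category.id_comp, mul_inv_cancel]) }

theorem pci_fst {C D : Type*} [Category C] [CartesianMonoidalCategory C] [Category D] [CartesianMonoidalCategory D]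
    (F : C ⥤ D) (A B : C) [PreservesFiniteProducts F] :
    (prodComparisonIso F A B).inv ≫ F.map (fst A B) = fst _ _ := by
  rw [Iso.inv_comp_eq]; simp

theorem pci_snd {C D : Type*} [Category C] [CartesianMonoidalCategory C] [Category D] [CartesianMonoidalCategory D]
    (F : C ⥤ D) (A B : C) [PreservesFiniteProducts F] :
    (prodComparisonIso F A B).inv ≫ F.map (snd A B) = snd _ _ := by
  rw [Iso.inv_comp_eq]; simp

/-- An algebraic group over an algebraic extension has a model over a finite subextension. -/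
theorem exists_model_group (k K : Type u) [Field k] [Field K] [Algebra k K] [Algebra.IsIntegral k K]
    (G : Over (Spec (CommRingCat.of K))) [GrpObj G] [LocallyOfFiniteType G.hom] [QuasiCompact G.hom] :
    ∃ (L : Type u) (_ : Field L) (_ : Algebra k L) (_ : FiniteDimensional k L) (_ : Algebra L K)
      (G₁ : Over (Spec (CommRingCat.of L))) (_ : GrpObj G₁), LocallyOfFiniteType G₁.hom ∧ QuasiCompact G₁.hom ∧
      Nonempty (Red.bc (Spec.map (CommRingCat.ofHom (algebraMap L K))) G₁ ≅ G) := by
  haveI : IsSeparated G.hom := AbRigid.isSeparated_of_grpObj G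
  haveI : LocallyOfFinitePresentation G.hom :=
    LocallyOfFinitePresentation.iff_locallyOfFiniteType.2 inferInstance
  obtain ⟨L₀, hL₀, G₀, h1, h2, h3, ⟨e⟩⟩ := exists_model_scheme k K G
  haveI := hL₀; haveI := h1; haveI := h2; haveI := h3
  haveI : Algebra.IsIntegral L₀ K := Algebra.IsIntegral.tower_top k
  let F := Over.pullback (Spec.map (CommRingCat.ofHom (algebraMap L₀ K)))
  let a := F.map (fst G₀ G₀) ≫ e.hom
  let b := F.map (snd G₀ G₀) ≫ e.hom
  haveI : LocallyOfFinitePresentation (G₀ ⊗ G₀).hom :=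
    inferInstanceAs (LocallyOfFinitePresentation (pullback.fst G₀.hom G₀.hom ≫ G₀.hom))
  haveI : LocallyOfFinitePresentation (G₀ ⊗ G₀ ⊗ G₀).hom :=
    inferInstanceAs (LocallyOfFinitePresentation (pullback.fst G₀.hom (G₀ ⊗ G₀).hom ≫ G₀.hom))
  haveI : QuasiCompact (G₀ ⊗ G₀).hom := by rw [Over.tensorObj_hom]; infer_instance
  haveI : QuasiSeparated (G₀ ⊗ G₀).hom := by rw [Over.tensorObj_hom]; infer_instance
  let y : F.obj (G₀ ⊗ G₀) ⟶ F.obj (G₀ ⊗ G₀ ⊗ G₀) := lift ((a * b) ≫ e.inv) (lift (a⁻¹ ≫ e.inv) ((1 : _ ⟶ G) ≫ e.inv)) ≫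
    (F.obj G₀ ◁ (prodComparisonIso F G₀ G₀).inv) ≫ (prodComparisonIso F G₀ (G₀ ⊗ G₀)).inv
  have hy1 : y ≫ F.map (fst G₀ (G₀ ⊗ G₀)) ≫ e.hom = a * b := by
    simp [y, reassoc_of% pci_fst F G₀ (G₀ ⊗ G₀)]
    exact (lift_fst_assoc _ _ _).trans (by simp)
  have hy2 : y ≫ F.map (snd G₀ (G₀ ⊗ G₀) ≫ fst G₀ G₀) ≫ e.hom = a⁻¹ := by
    simp [y, reassoc_of% pci_snd F G₀ (G₀ ⊗ G₀), reassoc_of% pci_fst F G₀ G₀]
    exact (lift_snd_assoc _ _ _).trans ((lift_fst_assoc _ _ _).trans (by simp))
  have hy3 : y ≫ F.map (snd G₀ (G₀ ⊗ G₀) ≫ snd G₀ G₀) ≫ e.hom = 1 := by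
    simp [y, reassoc_of% pci_snd F G₀ (G₀ ⊗ G₀), reassoc_of% pci_snd F G₀ G₀]
    exact (lift_snd_assoc _ _ _).trans ((lift_snd_assoc _ _ _).trans (by simp))
  obtain ⟨L, hL, hcomp, z, hz⟩ := exists_model_hom L₀ K y
  let φ : Spec (CommRingCat.of L) ⟶ Spec (CommRingCat.of L₀) := Spec.map (CommRingCat.ofHom (algebraMap L₀ L))
  let P' := Over.pullback φ
  let P := Over.pullback (Spec.map (CommRingCat.ofHom (algebraMap L K)))
  haveI : P.Faithful := ⟨fun h => TorusSlice15.bc_map_injective h⟩
  let X := P'.obj G₀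
  haveI : LocallyOfFiniteType X.hom := inferInstanceAs (LocallyOfFiniteType (pullback.snd G₀.hom φ))
  haveI : QuasiCompact X.hom := inferInstanceAs (QuasiCompact (pullback.snd G₀.hom φ))
  let e₁ : P.obj X ≅ G := SpreadSub19.bcComp _ _ hcomp G₀ ≪≫ e
  let pc := prodComparisonIso P' G₀ G₀
  have key : ∀ w : G₀ ⊗ G₀ ⊗ G₀ ⟶ G₀, P.map (pc.inv ≫ z ≫ P'.map w) ≫ e₁.hom =
      P.map pc.inv ≫ (SpreadSub19.bcComp _ _ hcomp (G₀ ⊗ G₀)).hom ≫ y ≫ F.map w ≫ e.hom := by
    intro w
    simp only [e₁, Iso.trans_hom, Functor.map_comp, Category.assoc, P, P']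
    rw [reassoc_of% SpreadSub19.bcComp_natural, reassoc_of% hz]
  have hfst : P.map pc.inv ≫ (SpreadSub19.bcComp _ _ hcomp (G₀ ⊗ G₀)).hom ≫ a = P.map (fst X X) ≫ e₁.hom := by
    simp only [a, e₁, Iso.trans_hom, F]
    rw [← reassoc_of% SpreadSub19.bcComp_natural, ← Functor.map_comp_assoc]
    congr 2
    exact pci_fst P' G₀ G₀
  have hsnd : P.map pc.inv ≫ (SpreadSub19.bcComp _ _ hcomp (G₀ ⊗ G₀)).hom ≫ b = P.map (snd X X) ≫ e₁.hom := by
    simp only [b, e₁, Iso.trans_hom, F]
    rw [← reassoc_of% SpreadSub19.bcComp_natural, ← Functor.map_comp_assoc]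
    congr 2
    exact pci_snd P' G₀ G₀
  let m : X ⊗ X ⟶ X := pc.inv ≫ z ≫ P'.map (fst G₀ (G₀ ⊗ G₀))
  let v₂ : X ⊗ X ⟶ X := pc.inv ≫ z ≫ P'.map (snd G₀ (G₀ ⊗ G₀) ≫ fst G₀ G₀)
  let o₂ : X ⊗ X ⟶ X := pc.inv ≫ z ≫ P'.map (snd G₀ (G₀ ⊗ G₀) ≫ snd G₀ G₀)
  have hm : P.map m ≫ e₁.hom = (P.map (fst X X) ≫ e₁.hom) * (P.map (snd X X) ≫ e₁.hom) := by
    rw [key, hy1, MonObj.comp_mul, MonObj.comp_mul, hfst, hsnd]
  have hv₂ : P.map v₂ ≫ e₁.hom = (P.map (fst X X) ≫ e₁.hom)⁻¹ := by
    rw [key, hy2, GrpObj.comp_inv, GrpObj.comp_inv, hfst]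
  have ho₂ : P.map o₂ ≫ e₁.hom = 1 := by rw [key, hy3, MonObj.comp_one, MonObj.comp_one]
  haveI : Surjective X.hom := by
    haveI : Nonempty (P.obj X).left := ⟨e₁.inv.left (η[G].left (IsLocalRing.closedPoint K))⟩
    exact ⟨fun s => ⟨pullback.fst X.hom _ (Classical.arbitrary (P.obj X).left), Subsingleton.elim (α := PrimeSpectrum L) _ _⟩⟩
  haveI : Flat (toUnit X).left := inferInstanceAs (Flat X.hom)
  haveI : Surjective (toUnit X).left := ‹Surjective X.hom›
  haveI : QuasiCompact (toUnit X).left := ‹QuasiCompact X.hom›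
  have hP : ∀ {W : Over (Spec (CommRingCat.of L))} (a b : W ⟶ X),
      P.map a ≫ e₁.hom = P.map b ≫ e₁.hom → a = b := fun a b h => P.map_injective ((cancel_mono e₁.hom).1 h)
  obtain ⟨o, ho⟩ := MTExt29.exists_desc (toUnit X) (lift (𝟙 X) (𝟙 X) ≫ o₂) fun {W} a b _ => hP _ _ (by
    simp only [Functor.map_comp, Category.assoc]
    rw [ho₂]
    simp only [MonObj.comp_one])
  haveI : Epi (toUnit X) := MTExt29.epi_of_cover _
  haveI : (P.map (toUnit X)).left |> Surjective := by
    exact MorphismProperty.of_isPullback (P := @Surjective) (BorelFix21.isPullback_bc_map _ (toUnit X)) ‹_›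
  haveI : Flat (P.map (toUnit X)).left :=
    MorphismProperty.of_isPullback (P := @Flat) (BorelFix21.isPullback_bc_map _ (toUnit X)) ‹_›
  haveI : QuasiCompact (P.map (toUnit X)).left :=
    MorphismProperty.of_isPullback (P := @QuasiCompact) (BorelFix21.isPullback_bc_map _ (toUnit X)) ‹_›
  haveI : Epi (P.map (toUnit X)) := MTExt29.epi_of_cover _
  have ho' : P.map o ≫ e₁.hom = 1 := by
    rw [← cancel_epi (P.map (toUnit X)), ← Functor.map_comp_assoc, ho, Functor.map_comp, Category.assoc, ho₂,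
      MonObj.comp_one, MonObj.comp_one]
  have hv : P.map (lift (𝟙 X) (𝟙 X) ≫ v₂) ≫ e₁.hom = e₁.hom⁻¹ := by
    rw [Functor.map_comp, Category.assoc, hv₂, GrpObj.comp_inv, ← Functor.map_comp_assoc, lift_fst, P.map_id,
      Category.id_comp]
  exact ⟨L, inferInstance, inferInstance, Module.Finite.trans L₀ L, inferInstance, X,
    grpObjOfFaithful P e₁ o ho' m hm (lift (𝟙 X) (𝟙 X) ≫ v₂) hv, inferInstance, inferInstance, ⟨e₁⟩⟩

end Groth.Agent.Semiab15
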