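import Groth.Agent.Lib.Semiab15.Exp

/-!
# The semiabelian part in positive characteristic
-/

set_option autoImplicit false
set_option linter.style.haveILetI false
set_option maxSynthPendingDepth 3
set_option backward.isDefEq.respectTransparency false
set_option backward.isDefEq.respectTransparency.types false

universe u

open CategoryTheory CategoryTheory.Limits MonoidalCategory CartesianMonoidalCategory MonObj GrpObj AlgebraicGeometry

noncomputable section

namespace Groth.Agent.Semiab15

variable {k : Type u} [Field k]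

/-- Semiabelian groups are stable under isomorphism. -/
theorem isSA_of_iso {S S' : Over (Spec (CommRingCat.of k))} [GrpObj S] [GrpObj S'] (hS : IsSA S) (e : S' ⟶ S)
    [IsMonHom e] [IsIso e] : IsSA S' := by
  obtain ⟨T, _, i, A, _, q, hi, hic, hT, hq, hqs, hqf, hk, hAp, hAs, hAc⟩ := hS
  haveI := hi; haveI := hic; haveI := hq; haveI := hqs; haveI := hqf
  haveI : IsMonHom (asIso e).inv := inferInstance
  haveI : IsMonHom (inv e) := by rw [← asIso_inv]; infer_instance
  haveI : IsIso e.left := (inferInstance : IsIso ((Over.forget _).map e))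
  haveI : IsIso (inv e).left := (inferInstance : IsIso ((Over.forget _).map (inv e)))
  refine ⟨T, inferInstance, i ≫ inv e, A, inferInstance, e ≫ q, inferInstance, ?_, hT, inferInstance, ?_, ?_, ?_, hAp,
    hAs, hAc⟩
  · rw [Over.comp_left]; infer_instance
  · rw [Over.comp_left]; infer_instance
  · rw [Over.comp_left]; infer_instance
  · exact IsPullback.of_iso (show IsPullback i (toUnit T) q η[A] from hk) (Iso.refl _) (asIso e).symm (Iso.refl _)
      (Iso.refl _) (by simp) (by simp) (by simp) (by simp)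

theorem map_pow_bc {K : Type u} [Field K] (φ : Spec (CommRingCat.of K) ⟶ Spec (CommRingCat.of k))
    {X Y : Over (Spec (CommRingCat.of k))} [GrpObj Y] (f : X ⟶ Y) :
    ∀ n : ℕ, (Over.pullback φ).map (f ^ n) = ((Over.pullback φ).map f) ^ n
  | 0 => by rw [pow_zero, pow_zero, Functor.map_one]
  | n + 1 => by rw [pow_succ, pow_succ, Functor.map_mul, map_pow_bc φ f n]

/-- In positive characteristic the image of some power map is semiabelian. -/
theorem exists_pow_image (p : ℕ) [Fact p.Prime] [CharP k p] (G : Over (Spec (CommRingCat.of k))) [GrpObj G]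
    [IsCommMonObj G] [LocallyOfFiniteType G.hom] [QuasiCompact G.hom] :
    ∃ (n : ℕ) (I : Over (Spec (CommRingCat.of k))) (_ : GrpObj I) (m : I ⟶ G) (π : G ⟶ I), 0 < n ∧ IsMonHom m ∧
      IsClosedImmersion m.left ∧ IsMonHom π ∧ π ≫ m = 𝟙 G ^ n ∧ IsSA I := by
  let K := AlgebraicClosure k
  let φ := Spec.map (CommRingCat.ofHom (algebraMap k K))
  haveI : CharP K p := charP_of_injective_algebraMap (algebraMap k K).injective p
  haveI : LocallyOfFiniteType (Red.bc φ G).hom := inferInstanceAs (LocallyOfFiniteType (pullback.snd G.hom φ))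
  haveI : QuasiCompact (Red.bc φ G).hom := inferInstanceAs (QuasiCompact (pullback.snd G.hom φ))
  haveI : IsCommMonObj (Red.bc φ G) := inferInstance
  obtain ⟨S, _, s, hs, hsc, hS, -, hQ0⟩ := exists_largest (Red.bc φ G)
  haveI := hs; haveI := hsc
  obtain ⟨Q, _, q, hq, hQc, hQl, hQq, hqf, hqs, -, hk⟩ := exists_quot s
  haveI := hq; haveI := hQc; haveI := hQl; haveI := hQq; haveI := hqf; haveI := hqs
  obtain ⟨n, hn, hQn⟩ := hasExp_of_noSA (p := p) Q (hQ0 Q q hk)
  haveI := isMonHom_pow (𝟙 G) n
  obtain ⟨_, _, _, I, _, π, m, -, -, hπ, hm, hIc, hIl, hIq, hπf, hπs, -, -, hmc, hπm⟩ := exists_image (𝟙 G ^ n)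
  haveI := hπ; haveI := hm; haveI := hIc; haveI := hIl; haveI := hIq; haveI := hπf; haveI := hπs; haveI := hmc
  refine ⟨n, I, inferInstance, m, π, hn, hm, hmc, hπ, hπm, ?_⟩
  let πK := (Over.pullback φ).map π
  let mK := (Over.pullback φ).map m
  haveI : IsMonHom mK := inferInstance
  haveI : IsMonHom πK := inferInstance
  haveI : IsClosedImmersion mK.left := BorelFix21.isClosedImmersion_bc φ m
  haveI : Mono mK := Over.mono_of_mono_left mK
  haveI : Flat πK.left := MorphismProperty.of_isPullback (P := @Flat) (BorelFix21.isPullback_bc_map φ π) ‹_›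
  haveI : Surjective πK.left := MorphismProperty.of_isPullback (P := @Surjective) (BorelFix21.isPullback_bc_map φ π) ‹_›
  haveI : QuasiCompact π.left := qc_left π
  haveI : QuasiCompact πK.left := MorphismProperty.of_isPullback (P := @QuasiCompact) (BorelFix21.isPullback_bc_map φ π) ‹_›
  have hK : πK ≫ mK = 𝟙 (Red.bc φ G) ^ n := by
    rw [← Functor.map_comp, hπm, map_pow_bc, CategoryTheory.Functor.map_id]
  -- the image lies in the semiabelian part
  have h1 : mK ≫ q = 1 := by
    haveI := MTExt29.epi_of_cover πK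
    rw [← cancel_epi πK, MonObj.comp_one, ← Category.assoc, hK, pow_map, hQn, MonObj.comp_one]
  obtain ⟨u, hu⟩ := CharTorus15.exists_lift hk mK h1
  haveI : Mono s := Over.mono_of_mono_left s
  haveI : IsMonHom u := BorelFix21.isMonHom_of_comp s u (hu ▸ inferInstance)
  haveI := AbelGrp20.isCommMonObj_of_mono s
  haveI : LocallyOfFiniteType S.hom := by rw [← Over.w s]; infer_instance
  haveI : QuasiCompact S.hom := by rw [← Over.w s]; infer_instance
  -- and contains it
  obtain ⟨hf', hs'⟩ := flat_surjective_pow hS hn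
  haveI := hf'; haveI := hs'
  haveI : QuasiCompact (𝟙 S ^ n).left := qc_left _
  haveI := MTExt29.epi_of_cover (𝟙 S ^ n)
  have hw : (s ≫ πK) ≫ u = 𝟙 S ^ n := by
    rw [← cancel_mono s, Category.assoc, hu, Category.assoc, hK, Isogeny14.hom_pow_comp s (𝟙 S), Category.id_comp,
      MonObj.comp_pow, Category.comp_id]
  haveI : Mono u := mono_of_mono_fac hu
  haveI : IsIso u := by
    haveI : LocallyOfFiniteType (Red.bc φ I).hom := inferInstanceAs (LocallyOfFiniteType (pullback.snd I.hom φ))
    haveI : QuasiCompact (Red.bc φ I).hom := inferInstanceAs (QuasiCompact (pullback.snd I.hom φ))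
    haveI : IsClosedImmersion (u.left ≫ s.left) := by rw [← Over.comp_left, hu]; infer_instance
    haveI : IsClosedImmersion u.left := IsClosedImmersion.of_comp u.left s.left
    obtain ⟨hSs, hSc⟩ := isSA_smooth_connected hS
    haveI := hSs; haveI := hSc
    haveI := geometricallyIntegral_of_smooth S
    haveI : IsIntegral S.left := GeometricallyIntegral.isIntegral_of_subsingleton S.hom
    haveI : Surjective u.left := by
      haveI : Surjective ((s ≫ πK).left ≫ u.left) := by rw [← Over.comp_left, hw]; exact hs'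
      exact Surjective.of_comp (s ≫ πK).left u.left
    haveI : IsIso u.left := isIso_of_isClosedImmersion_of_surjective u.left
    haveI : IsIso ((Over.forget _).map u) := ‹IsIso u.left›
    exact isIso_of_reflects_iso u (Over.forget _)
  exact isSA_of_bc φ I (isSA_of_iso hS u)

/-- No semiabelian subgroups gives an exponent, in positive characteristic. -/
theorem hasExp_iff_noSA (p : ℕ) [Fact p.Prime] [CharP k p] (G : Over (Spec (CommRingCat.of k))) [GrpObj G]
    [IsCommMonObj G] [LocallyOfFiniteType G.hom] [QuasiCompact G.hom] : NoSA G ↔ HasExp G := by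
  refine ⟨fun h => ?_, fun ⟨n, hn, hn'⟩ S _ s _ _ hS => ?_⟩
  · obtain ⟨n, I, _, m, π, hn, hm, hmc, -, hπm, hI⟩ := exists_pow_image p G
    haveI := hm; haveI := hmc
    exact ⟨n, hn, by rw [← hπm, ← Category.id_comp m, id_eq_one_of_isIso (h I m hI), MonObj.one_comp, MonObj.comp_one]⟩
  · haveI : LocallyOfFiniteType S.hom := by rw [← Over.w s]; infer_instance
    haveI : QuasiCompact S.hom := by rw [← Over.w s]; infer_instance
    haveI : Mono s := Over.mono_of_mono_left s
    refine isIso_one_of_id (trivial_of_pow hS hn ((cancel_mono s).1 ?_))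
    rw [MonObj.one_comp, pow_map, hn', MonObj.comp_one]

/-- The quotient by a semiabelian subgroup containing all others has an exponent, and there is a
quasi-complement. -/
theorem quasiComplement (p : ℕ) [Fact p.Prime] [CharP k p] {G S : Over (Spec (CommRingCat.of k))} [GrpObj G]
    [IsCommMonObj G] [LocallyOfFiniteType G.hom] [QuasiCompact G.hom] [GrpObj S] (s : S ⟶ G) [IsMonHom s]
    [IsClosedImmersion s.left] (hS : IsSA S)
    (hmax : ∀ (S' : Over (Spec (CommRingCat.of k))) [GrpObj S'] (s' : S' ⟶ G) [IsMonHom s'] [IsClosedImmersion s'.left],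
      IsSA S' → ∃ g : S' ⟶ S, g ≫ s = s') :
    (∀ (Q : Over (Spec (CommRingCat.of k))) [GrpObj Q] (q : G ⟶ Q) [IsMonHom q] [Surjective q.left] [Flat q.left],
      AlgGrp.IsKernel s q → ∃ n : ℕ, 0 < n ∧ (𝟙 Q) ^ n = 1) ∧
    ∃ (H : Over (Spec (CommRingCat.of k))) (_ : GrpObj H) (h : H ⟶ G), IsMonHom h ∧ IsClosedImmersion h.left ∧
      Flat ((s ⊗ₘ h) ≫ μ[G]).left ∧ Surjective ((s ⊗ₘ h) ≫ μ[G]).left ∧
      IsFinite (pullback.fst s.left h.left ≫ S.hom) := by
  obtain ⟨n, I, _, m, π, hn, hm, hmc, hπ, hπm, hI⟩ := exists_pow_image p G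
  haveI := hm; haveI := hmc; haveI := hπ
  obtain ⟨g, hg⟩ := hmax I m hI
  let ρ : G ⟶ S := π ≫ g
  have hρ : ρ ≫ s = 𝟙 G ^ n := by rw [Category.assoc, hg, hπm]
  refine ⟨fun Q _ q _ _ _ hk => ⟨n, hn, ?_⟩, ?_⟩
  · haveI : QuasiCompact q.left := qc_left q
    haveI := MTExt29.epi_of_cover q
    rw [← cancel_epi q, ← pow_map, ← hρ, Category.assoc, CharTorus15.comp_eq_one hk, MonObj.comp_one, MonObj.comp_one]
  haveI : Mono s := Over.mono_of_mono_left s
  haveI := AbelGrp20.isCommMonObj_of_mono s
  haveI : LocallyOfFiniteType S.hom := by rw [← Over.w s]; infer_instance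
  haveI : QuasiCompact S.hom := by rw [← Over.w s]; infer_instance
  haveI := isMonHom_pow (𝟙 G) n
  obtain ⟨H, _, h, hh, hhc, hkh⟩ := CharTorus15.exists_kernel (𝟙 G ^ n)
  haveI := hh; haveI := hhc
  haveI : IsMonHom ρ := BorelFix21.isMonHom_of_comp s ρ (hρ ▸ inferInstance)
  obtain ⟨hnf, hns⟩ := flat_surjective_pow hS hn
  let μ' : S ⊗ H ⟶ G := (s ⊗ₘ h) ≫ μ[G]
  have hμ : μ' = (fst S H ≫ s) * (snd S H ≫ h) := by
    rw [Hom.mul_def, lift_fst_comp_snd_comp]
  have hH : h ^ n = 1 := by
    have := CharTorus15.comp_eq_one hkh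
    rwa [MonObj.comp_pow, Category.comp_id] at this
  have hw : fst S H ≫ (𝟙 S ^ n) = μ' ≫ ρ := by
    rw [← cancel_mono s, Category.assoc, pow_map, Category.assoc, hρ, MonObj.comp_pow, MonObj.comp_pow,
      MonObj.comp_pow, Category.comp_id, Category.comp_id, hμ]
    letI : CommGroup (S ⊗ H ⟶ G) := Hom.commGroup
    rw [mul_pow, ← MonObj.comp_pow h n (snd S H), hH, MonObj.comp_one, _root_.mul_one]
  have hsq : IsPullback μ' (fst S H) ρ (𝟙 S ^ n) := by
    have hc : ∀ w : PullbackCone ρ (𝟙 S ^ n), (w.fst * (w.snd ≫ s)⁻¹) ≫ (𝟙 G ^ n) = 1 := fun w => by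
      rw [MonObj.comp_pow, Category.comp_id]
      letI : CommGroup (w.pt ⟶ G) := Hom.commGroup
      have h1 := congrArg (fun x => x ≫ s) w.condition
      simp only [Category.assoc, hρ] at h1
      rw [MonObj.comp_pow, Category.comp_id, pow_map, MonObj.comp_pow, MonObj.comp_pow, Category.comp_id] at h1
      rw [mul_pow, inv_pow, h1, mul_inv_cancel]
    refine ⟨⟨hw.symm⟩, ⟨PullbackCone.IsLimit.mk _ (fun w => lift w.snd (hkh.lift _ (toUnit _) (by
      rw [hc w, Hom.one_def]))) (fun w => ?_) (fun w => lift_fst _ _) fun w l h1 h2 => ?_⟩⟩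
    · letI : CommGroup (w.pt ⟶ G) := Hom.commGroup
      rw [hμ, MonObj.comp_mul, lift_fst_assoc, lift_snd_assoc, hkh.lift_fst, mul_comm w.fst, mul_inv_cancel_left]
    · refine CartesianMonoidalCategory.hom_ext _ _ (by rw [lift_fst, h2]) ?_
      rw [lift_snd]
      refine hkh.hom_ext ?_ (toUnit_unique _ _)
      rw [hkh.lift_fst, ← h1, ← h2, hμ, MonObj.comp_mul]
      letI : CommGroup (w.pt ⟶ G) := Hom.commGroup
      simp only [Category.assoc]
      rw [mul_comm (l ≫ fst S H ≫ s), mul_inv_cancel_right]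
  refine ⟨H, inferInstance, h, hh, hhc, ?_, ?_, ?_⟩
  · exact MorphismProperty.of_isPullback (P := @Flat) (hsq.map (Over.forget _)).flip hnf
  · exact MorphismProperty.of_isPullback (P := @Surjective) (hsq.map (Over.forget _)).flip hns
  · let M : Over (Spec (CommRingCat.of k)) := Over.mk (pullback.fst s.left h.left ≫ S.hom)
    let a : M ⟶ S := Over.homMk (pullback.fst s.left h.left) rfl
    let b : M ⟶ H := Over.homMk (pullback.snd s.left h.left) (by
      show pullback.snd s.left h.left ≫ H.hom = pullback.fst s.left h.left ≫ S.hom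
      rw [← Over.w h, ← pullback.condition_assoc, Over.w s])
    haveI : IsClosedImmersion a.left := inferInstanceAs (IsClosedImmersion (pullback.fst s.left h.left))
    have hab : a ≫ s = b ≫ h := Over.OverMorphism.ext pullback.condition
    refine isFinite_of_pow hS (H := M) a hn ((cancel_mono s).1 ?_)
    rw [MonObj.one_comp, Isogeny14.hom_pow_comp s a, hab, ← MonObj.comp_pow, hH, MonObj.comp_one]

end Groth.Agent.Semiab15
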