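import Groth.Agent.Lib.Semiab15.Main
import Groth.Agent.Lib.MTRigid29.CentralSubDesc
import Groth.Agent.Lib.TorusHom19.Basic
import Groth.Agent.Lib.TorPts21.ReductiveCartanField

/-!
# Descent of semiabelian structures from an algebraic closure
-/

set_option autoImplicit false
set_option linter.style.haveILetI false
set_option backward.isDefEq.respectTransparency false
set_option backward.isDefEq.respectTransparency.types false
set_option maxSynthPendingDepth 3

universe u

open CategoryTheory Limits MonoidalCategory CartesianMonoidalCategory MonObj GrpObj AlgebraicGeometry Opposite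
open Groth.Agent Groth.Agent.DiagGL Groth.Agent.MTRigid29

noncomputable section

namespace Groth.Agent.Semiab15

section Desc

variable {S S' : Scheme.{u}} {G : Over S} [GrpObj G] {π : S' ⟶ S} {H' : Over S'} (j' : H' ⟶ Red.bc π G)
  [GrpObj H'] [IsMonHom j'] [IsImmersion j'.left] [IsSeparated G.hom] [LocallyOfFiniteType G.hom]
  (hH' : SGA3x.IsMultTypeFT H') [Flat π] [Surjective π]

include hH' in
/-- A subgroup of multiplicative type whose points do not depend on the lift of the base descends. -/
theorem exists_descent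
    (hind : ∀ {Z : Over S'} (p : (Over.map π).obj Z ⟶ (Over.map π).obj H'), ∃ y : Z ⟶ H', fl π G (y ≫ j') = p ≫ fl π G j')
    (hcov : ∀ V : S.Opens, IsAffineOpen V → ∃ W : S'.Opens, IsCompact (W : Set S') ∧ π.base '' (W : Set S') = (V : Set S)) :
    ∃ (H : Over S) (_ : GrpObj H) (j : H ⟶ G), IsMonHom j ∧ IsImmersion j.left ∧ SGA3x.IsMultTypeFT H ∧
      ∃ φ : Red.bc π H ≅ H', φ.hom ≫ j' = (Over.pullback π).map j := by
  haveI : Mono j' := Over.mono_of_mono_left j'
  haveI := quasiCompactCover_singleton.{u} π hcov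
  have hcovm : Presieve.ofArrows (fun _ : PUnit.{u + 1} => S') (fun _ => π) ∈ Scheme.fpqcPrecoverage S := by
    rw [Presieve.ofArrows_pUnit]
    refine ⟨?_, (Scheme.singleton_mem_precoverage_iff _ π).2 ⟨π.surjective, ‹_›⟩⟩
    rw [← PreZeroHypercover.presieve₀_singleton, Scheme.presieve₀_mem_qcPrecoverage_iff]
    infer_instance
  let ξ : (subFunctor j').obj (op ((Over.map π).obj H')) :=
    ⟨fl π G j', fun Z p => hind p⟩
  have hrep : ∀ (_ : PUnit.{u + 1}) (T : Over S') (xi : (subFunctor j').obj (op ((Over.map π).obj T))),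
      ∃! w : T ⟶ H', (subFunctor j').map ((Over.map π).map w).op ξ = xi := by
    intro _ T xi
    obtain ⟨y, hy⟩ := xi.2 T (𝟙 _)
    rw [Category.id_comp] at hy
    refine ⟨y, Subtype.ext ((fl_comp π G y j').symm.trans hy), fun w hw => (cancel_mono j').1 (fl_injective π G ?_)⟩
    rw [hy, fl_comp]
    exact congrArg Subtype.val hw
  obtain ⟨A, a, ha⟩ := exists_rep_of_cover (F := subFunctor j') (fun _ : PUnit.{u + 1} => π)
    (W := fun _ => H') (fun _ => ξ) hrep hcovm (isSheaf_subFunctor j')
    fun D hD => SchDesc12.isEffective_of_isAffineHom (D := D) hcovm fun i => by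
      rw [hD i]; exact isAffineHom_of_isMultTypeFT hH'
  have haj : ∀ {T : Over S} (g g' : T ⟶ A), g ≫ a.1 = g' ≫ a.1 → g = g' := fun {T} g g' h =>
    (ha T ((subFunctor j').map g.op a)).unique rfl (Subtype.ext h.symm)
  haveI : Mono a.1 := ⟨fun g g' => haj g g'⟩
  have hfac : ∀ {T : Over S} (x : T ⟶ G),
      (∀ (Z : Over S') (p : (Over.map π).obj Z ⟶ T), ∃ y : Z ⟶ H', fl π G (y ≫ j') = p ≫ x) →
      ∃ g : T ⟶ A, g ≫ a.1 = x := fun {T} x hx => by
    obtain ⟨g, hg, -⟩ := ha T ⟨x, hx⟩
    exact ⟨g, congrArg Subtype.val hg⟩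
  have hmem : ∀ {T : Over S} (g : T ⟶ A) (Z : Over S') (p : (Over.map π).obj Z ⟶ T),
      ∃ y : Z ⟶ H', fl π G (y ≫ j') = p ≫ g ≫ a.1 := fun {T} g => ((subFunctor j').map g.op a).2
  obtain ⟨hgrp, hhom⟩ := exists_grpObj_of_subgroup a.1
    (fun X g g' => hfac _ fun Z p => by
      obtain ⟨y, hy⟩ := hmem g Z p
      obtain ⟨y', hy'⟩ := hmem g' Z p
      exact ⟨y * y', by rw [MonObj.mul_comp, fl_mul, hy, hy', MonObj.comp_mul]⟩)
    (hfac _ fun Z p => ⟨1, by rw [MonObj.one_comp, fl_one, MonObj.comp_one]⟩)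
    (fun X g => hfac _ fun Z p => by
      obtain ⟨y, hy⟩ := hmem g Z p
      exact ⟨y⁻¹, by rw [GrpObj.inv_comp, fl_inv, hy, GrpObj.comp_inv]⟩)
  letI := hgrp
  haveI := hhom
  obtain ⟨y, hy⟩ := a.2 (Red.bc π A) (fl π A (𝟙 _))
  have hy' : y ≫ j' = (Over.pullback π).map a.1 := fl_injective π G (by
    rw [hy, ← fl_comp_map, Category.id_comp])
  obtain ⟨b, hb⟩ := hfac (fl π G j') ξ.2
  obtain ⟨z, hz⟩ := fl_surjective π A b
  have hz' : z ≫ (Over.pullback π).map a.1 = j' := fl_injective π G (by rw [fl_comp_map, hz, hb])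
  haveI : Mono ((Over.pullback π).map a.1) := inferInstance
  let φ : Red.bc π A ≅ H' := ⟨y, z,
    (cancel_mono ((Over.pullback π).map a.1)).1 (by rw [Category.assoc, hz', hy', Category.id_comp]),
    (cancel_mono j').1 (by rw [Category.assoc, hy', hz', Category.id_comp])⟩
  haveI : IsMonHom ((Over.pullback π).map a.1) := TorsorSch25.isMonHom_of_points _ fun T u v => fl_injective π G (by
    rw [fl_comp_map, fl_mul, fl_mul, MonObj.mul_comp, fl_comp_map, fl_comp_map])
  haveI : IsMonHom φ.hom := TorsorSch25.isMonHom_of_points y fun T u v => (cancel_mono j').1 (by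
    conv_rhs => rw [MonObj.mul_comp]
    rw [Category.assoc, Category.assoc, Category.assoc, hy', MonObj.mul_comp])
  haveI : IsIso y := ⟨⟨z, φ.hom_inv_id, φ.inv_hom_id⟩⟩
  haveI : IsIso y.left := (inferInstance : IsIso ((Over.forget _).map y))
  refine ⟨A, hgrp, a.1, hhom, ?_, ?_, φ, hy'⟩
  · haveI : IsImmersion ((Over.pullback π).map a.1).left := by
      rw [← hy']
      exact (MorphismProperty.cancel_left_of_respectsIso @IsImmersion _ _).2 ‹_›
    haveI : QuasiCompact ((Over.pullback π).map a.1).left := by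
      haveI : IsAffineHom H'.hom := isAffineHom_of_isMultTypeFT hH'
      haveI : IsAffineHom (Red.bc π A).hom := by
        rw [← Over.w y]
        exact (MorphismProperty.cancel_left_of_respectsIso @IsAffineHom _ _).2 ‹_›
      haveI : IsSeparated (Red.bc π G).hom := MorphismProperty.pullback_snd G.hom π inferInstance
      haveI : QuasiCompact (((Over.pullback π).map a.1).left ≫ (Red.bc π G).hom) := by
        rw [show ((Over.pullback π).map a.1).left ≫ (Red.bc π G).hom = (Red.bc π A).hom from Over.w _]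
        infer_instance
      exact QuasiCompact.of_comp _ (Red.bc π G).hom
    have hfam : Presieve.ofArrows (fun _ : PUnit.{u + 1} => pullback G.hom π) (fun _ => pullback.fst G.hom π) ∈
        Scheme.fpqcPrecoverage G.left := by
      haveI : Flat (pullback.fst G.hom π) := MorphismProperty.pullback_fst _ _ ‹_›
      haveI : Surjective (pullback.fst G.hom π) := MorphismProperty.pullback_fst _ _ ‹_›
      haveI := quasiCompactCover_singleton.{u} (pullback.fst G.hom π) (cover_pullback π G.hom hcov)
      rw [Presieve.ofArrows_pUnit]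
      refine ⟨?_, (Scheme.singleton_mem_precoverage_iff _ _).2 ⟨(pullback.fst G.hom π).surjective, ‹_›⟩⟩
      rw [← PreZeroHypercover.presieve₀_singleton, Scheme.presieve₀_mem_qcPrecoverage_iff]
      infer_instance
    haveI := H12.descendsAlong_isImmersion_qc.{u}
    refine (prop_of_fpqc_cover _ hfam (@IsImmersion ⊓ @QuasiCompact) a.1.left fun _ => ?_).1
    let e := (isPullback_map_left π a.1).isoPullback
    have he : e.hom ≫ pullback.snd a.1.left (pullback.fst G.hom π) = ((Over.pullback π).map a.1).left :=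
      (isPullback_map_left π a.1).isoPullback_hom_snd
    exact (MorphismProperty.cancel_left_of_respectsIso (@IsImmersion ⊓ @QuasiCompact) e.hom _).1
      (by rw [he]; exact ⟨inferInstance, inferInstance⟩)
  · refine isMultTypeFT_of_bc π hcov A ?_
    obtain ⟨T, f, hf, hs, hcv, hloc⟩ := hH'
    refine ⟨T, f, hf, hs, hcv, fun t => ?_⟩
    obtain ⟨U, hU, M, _, hfg, ⟨e⟩⟩ := hloc t
    haveI : IsMonHom ((Over.pullback (U.ι ≫ f)).map φ.hom) :=
      TorsorSch25.isMonHom_of_points _ fun T u v => fl_injective _ _ (by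
        rw [fl_comp_map, fl_mul, fl_mul, fl_comp_map, fl_comp_map, MonObj.mul_comp])
    haveI : IsMonHom ((Over.pullback (U.ι ≫ f)).mapIso φ).hom := ‹_›
    exact ⟨U, hU, M, inferInstance, hfg, ⟨Grp.mkIso' ((Over.pullback (U.ι ≫ f)).mapIso φ) ≪≫ e⟩⟩

end Desc

/-- The torus part does not depend on the lift of the base. -/
theorem torus_indep {k : Type u} [Field k] {K : Type u} [Field K] {π : Spec (CommRingCat.of K) ⟶ Spec (CommRingCat.of k)}
    {G : Over (Spec (CommRingCat.of k))} [GrpObj G] [IsSeparated G.hom] [LocallyOfFiniteType G.hom]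
    {T A : Over (Spec (CommRingCat.of K))} [GrpObj T] [GrpObj A] (hT : Red.IsTorus T)
    (i : T ⟶ Red.bc π G) [IsMonHom i] (q : Red.bc π G ⟶ A) [IsMonHom q] (hk : AlgGrp.IsKernel i q) [IsProper A.hom]
    {Z : Over (Spec (CommRingCat.of K))} (p : (Over.map π).obj Z ⟶ (Over.map π).obj T) :
    ∃ y : Z ⟶ T, fl π G (y ≫ i) = p ≫ fl π G i := by
  let P := pullback π π
  let p₁ : P ⟶ Spec (CommRingCat.of K) := pullback.fst π π
  let p₂ : P ⟶ Spec (CommRingCat.of K) := pullback.snd π π
  let r : P ⟶ Spec (CommRingCat.of k) := p₁ ≫ π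
  have h₂ : p₂ ≫ π = r := pullback.condition.symm
  have h₁ : p₁ ≫ π = r := rfl
  haveI := isMonHom_compIso h₁ G
  haveI : IsMonHom (twist i h₂) := isMonHom_twist i h₂
  haveI : IsMonHom (compIso h₁ G).inv := inferInstance
  haveI : IsProper (Red.bc p₁ A).hom := inferInstanceAs (IsProper (pullback.snd A.hom p₁))
  haveI : IsMonHom ((Over.pullback p₁).map q) := inferInstance
  have h1 : twist i h₂ ≫ (compIso h₁ G).inv ≫ (Over.pullback p₁).map q = 1 :=
    TorusHom19.eq_one_of_isProper (TorusHom19.isTorus_bc hT p₂) _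
  have hk₁ := TorusSlice15.isKernel_bc i q hk p₁
  rw [← Category.assoc] at h1
  obtain ⟨c, hc⟩ : ∃ c : Red.bc p₂ T ⟶ Red.bc p₁ T, c ≫ (Over.pullback p₁).map i = twist i h₂ ≫ (compIso h₁ G).inv :=
    ⟨hk₁.lift _ (toUnit _) (by rw [h1, Hom.one_def]), hk₁.lift_fst _ _ _⟩
  let m : Z.left ⟶ P := pullback.lift Z.hom (p.left ≫ T.hom) ((Over.w p).symm.trans (Category.assoc _ _ _).symm)
  let W : Over P := Over.mk m
  let h : W ⟶ Red.bc p₂ T := Over.homMk (pullback.lift p.left m (pullback.lift_snd _ _ _).symm) (pullback.lift_snd _ _ _)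
  have hW : m ≫ p₁ = Z.hom := pullback.lift_fst _ _ _
  refine ⟨Over.homMk ((h ≫ c).left ≫ pullback.fst T.hom p₁) ?_, ?_⟩
  · rw [Category.assoc, pullback.condition, ← Category.assoc, show (h ≫ c).left ≫ pullback.snd T.hom p₁ = m from Over.w (h ≫ c), hW]
  · have h4 : h ≫ c ≫ twist i h₁ = h ≫ twist i h₂ := by
      rw [show twist i h₁ = (Over.pullback p₁).map i ≫ (compIso h₁ G).hom from rfl, ← Category.assoc c, hc,
        Category.assoc, Iso.inv_hom_id, Category.comp_id]
    have h5 := congrArg (fun w => w.left ≫ pullback.fst G.hom r) h4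
    simp only [Over.comp_left, Category.assoc, twist_left_fst] at h5
    ext1
    simp only [Over.comp_left, fl_left, Over.map_obj_left] at h5 ⊢
    simpa [h] using h5

/-- A group semiabelian over a field extension is semiabelian. -/
theorem isSA_of_bc {k : Type u} [Field k] {K : Type u} [Field K] (π : Spec (CommRingCat.of K) ⟶ Spec (CommRingCat.of k))
    (G : Over (Spec (CommRingCat.of k))) [GrpObj G] [IsCommMonObj G] [LocallyOfFiniteType G.hom] [QuasiCompact G.hom]
    (hK : IsSA (Red.bc π G)) : IsSA G := by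
  obtain ⟨T, _, i, A, _, q, hi, hic, hT, hq, hqs, hqf, hk, hAp, hAs, hAc⟩ := hK
  haveI := hi; haveI := hic; haveI := hq; haveI := hqs; haveI := hqf; haveI := hAp; haveI := hAs; haveI := hAc
  haveI : Surjective π := ⟨fun z => ⟨IsLocalRing.closedPoint K, Subsingleton.elim _ _⟩⟩
  haveI : Flat π := inferInstance
  haveI : IsSeparated G.hom := AbRigid.isSeparated_of_grpObj G
  haveI : LocallyOfFiniteType (Red.bc π G).hom := inferInstanceAs (LocallyOfFiniteType (pullback.snd G.hom π))
  haveI : QuasiCompact (Red.bc π G).hom := inferInstanceAs (QuasiCompact (pullback.snd G.hom π))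
  haveI : IsImmersion i.left := inferInstance
  have hcov : ∀ V : (Spec (CommRingCat.of k)).Opens, IsAffineOpen V → ∃ W : (Spec (CommRingCat.of K)).Opens,
      IsCompact (W : Set (Spec (CommRingCat.of K))) ∧ π.base '' (W : Set (Spec (CommRingCat.of K))) = (V : Set _) := by
    intro V hV
    refine ⟨π ⁻¹ᵁ V, ?_, ?_⟩
    · exact (π.isCompact_preimage hV.isCompact)
    · exact Set.image_preimage_eq _ π.surjective
  obtain ⟨H, _, j, hj, -, -, φ, hφ⟩ := exists_descent i (MTRigid29.isMultTypeFT_of_torus hT)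
    (fun p => torus_indep hT i q hk p) hcov
  haveI := hj
  haveI hjc' : IsClosedImmersion ((Over.pullback π).map j).left := by
    haveI : IsIso φ.hom.left := (inferInstance : IsIso ((Over.forget _).map φ.hom))
    rw [← hφ, Over.comp_left]
    infer_instance
  haveI : IsClosedImmersion j.left := by
    haveI := @FpqcDesc.descendsAlong_isClosedImmersion.{u}
    exact MorphismProperty.of_isPullback_of_descendsAlong (P := @IsClosedImmersion)
      (Q := @Surjective ⊓ @Flat ⊓ @QuasiCompact) (isPullback_map_left π j).flip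
      ⟨⟨inferInstance, inferInstance⟩, inferInstance⟩ hjc'
  haveI : Mono i := Over.mono_of_mono_left i
  haveI : IsMonHom ((Over.pullback π).map j) := inferInstance
  haveI hφm : IsMonHom φ.hom := TorsorSch25.isMonHom_of_points _ fun X u v => (cancel_mono i).1 (by
    conv_rhs => rw [MonObj.mul_comp]
    rw [Category.assoc, Category.assoc, Category.assoc, hφ, MonObj.mul_comp])
  haveI : IsMonHom φ.inv := inferInstance
  haveI : IsIso φ.inv.left := (inferInstance : IsIso ((Over.forget _).map φ.inv))
  have hH : Red.IsTorus H := TorPts21.isTorus_of_bc π (by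
    haveI : IsMonHom η[T] := TorsorSch25.isMonHom_of_points η[T] fun W x y => by
      have h : ∀ z : W ⟶ 𝟙_ (Over (Spec (CommRingCat.of K))), z ≫ η[T] = 1 := fun z => by
        rw [Hom.one_def, toUnit_unique z (toUnit W)]
      rw [h, h, h, _root_.mul_one]
    haveI : IsClosedImmersion η[T].left := AbelGrp20.isClosedImmersion_one T
    refine isTorus_of_quot hT η[T] φ.inv ?_
    show IsPullback η[T] (toUnit _) φ.inv η[Red.bc π H]
    rw [toUnit_unique (toUnit _) (𝟙 _)]
    exact IsPullback.of_vert_isIso ⟨by rw [Category.id_comp, IsMonHom.one_hom]⟩)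
  obtain ⟨Q, _, c, hcm, -, hQl, hQq, hcf, hcs, hcp, hkc⟩ := exists_quot j
  haveI := hcm; haveI := hQl; haveI := hQq; haveI := hcf; haveI := hcs
  haveI : IsMonHom ((Over.pullback π).map c) := inferInstance
  haveI : Flat ((Over.pullback π).map c).left :=
    MorphismProperty.of_isPullback (P := @Flat) (BorelFix21.isPullback_bc_map π c) ‹_›
  haveI : Surjective ((Over.pullback π).map c).left :=
    MorphismProperty.of_isPullback (P := @Surjective) (BorelFix21.isPullback_bc_map π c) ‹_›
  haveI : QuasiCompact q.left := qc_left q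
  obtain ⟨d, -, hd⟩ := CharTorus15.desc_hom i q hk ((Over.pullback π).map c) (by
    rw [← cancel_epi φ.hom, MonObj.comp_one, ← Category.assoc, hφ]
    exact CharTorus15.comp_eq_one (TorusSlice15.isKernel_bc j c hkc π))
  haveI : Surjective d.left := by
    haveI : Surjective (q.left ≫ d.left) := by rw [← Over.comp_left, hd]; infer_instance
    exact Surjective.of_comp q.left d.left
  haveI : Smooth (Red.bc π G).hom := by
    haveI : LocallyOfFiniteType T.hom := by rw [← Over.w i]; infer_instance
    exact (TorusSlice15.smooth_connected i q hk hT).1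
  haveI : LocallyOfFiniteType (Red.bc π Q).hom := inferInstanceAs (LocallyOfFiniteType (pullback.snd Q.hom π))
  haveI : QuasiCompact (Red.bc π Q).hom := inferInstanceAs (QuasiCompact (pullback.snd Q.hom π))
  haveI hG : Smooth G.hom := MorphismProperty.of_pullback_snd_of_descendsAlong (P := @Smooth)
    (Q := @Surjective ⊓ @Flat ⊓ @QuasiCompact) ⟨⟨inferInstance, inferInstance⟩, inferInstance⟩
    (f := G.hom) (g := π) (by exact ‹Smooth (Red.bc π G).hom›)
  haveI : Smooth Q.hom := AlgSpDescent.smooth_of_fppf_comp c.left Q.hom hcf hcp hcs (by rw [Over.w]; infer_instance)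
  haveI : Smooth (Red.bc π Q).hom := inferInstanceAs (Smooth (pullback.snd Q.hom π))
  obtain ⟨hQp, hQc⟩ := abelian_of_surjective (Q := Red.bc π Q) d
  haveI := @FpqcDesc.descendsAlong_isProper.{u}
  refine ⟨H, inferInstance, j, Q, inferInstance, c, hj, inferInstance, hH, hcm, hcs, hcf, hkc, ?_, inferInstance,
    TorPts21.connectedSpace_of_bc π hQc⟩
  exact MorphismProperty.of_pullback_snd_of_descendsAlong (P := @IsProper)
    (Q := @Surjective ⊓ @Flat ⊓ @QuasiCompact) ⟨⟨inferInstance, inferInstance⟩, inferInstance⟩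
    (f := Q.hom) (g := π) (by exact hQp)

end Groth.Agent.Semiab15
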