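import Groth.Agent.Lib.Semiab15.Apps
import Groth.Agent.Lib.IsogTransfer19.Words

/-!
# Semiabelian groups and isogenies
-/

set_option autoImplicit false
set_option maxSynthPendingDepth 3
set_option backward.isDefEq.respectTransparency false

universe u

open CategoryTheory CategoryTheory.Limits MonoidalCategory CartesianMonoidalCategory MonObj GrpObj AlgebraicGeometry

noncomputable section

namespace Groth.Agent.Semiab15

variable {k : Type u} [Field k]

/-- A smooth connected finite group is trivial. -/
theorem trivial_of_finite_connected (C : Over (Spec (CommRingCat.of k))) [GrpObj C] [Smooth C.hom]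
    [ConnectedSpace ↥C.left] [IsFinite C.hom] : 𝟙 C = 1 := by
  haveI : IsSeparated C.hom := AbRigid.isSeparated_of_grpObj C
  haveI : IsSeparated (𝟙_ (Over (Spec (CommRingCat.of k)))).hom := inferInstanceAs (IsSeparated (𝟙 _))
  haveI : IsFinite (toUnit C).left := inferInstanceAs (IsFinite C.hom)
  haveI := IsogTransfer19.good_of_connected C
  exact IsogTransfer19.eq_one_of_comp_eq_one (toUnit C) (𝟙 C) (toUnit_unique _ _) 1 (Category.comp_id _)

/-- A group surjected by a semiabelian group up to a finite subgroup, if smooth and connected, is semiabelian. -/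
theorem isSA_of_isogeny {G H N : Over (Spec (CommRingCat.of k))} [GrpObj G] [GrpObj H] [GrpObj N] [Smooth G.hom]
    [QuasiCompact G.hom] [ConnectedSpace ↥G.left] [LocallyOfFiniteType H.hom] [QuasiCompact H.hom] (f : G ⟶ H)
    [IsMonHom f] [Surjective f.left] (n : N ⟶ G) [IsMonHom n] [IsClosedImmersion n.left] [IsFinite N.hom]
    (hker : AlgGrp.IsKernel n f) (hH : IsSA H) : IsSA G := by
  obtain ⟨hHs, hHc⟩ := isSA_smooth_connected hH
  haveI := hHs; haveI := hHc
  haveI : IsReduced H.left := OrbitTop19.isReduced_of_smooth H.hom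
  haveI : IsSeparated G.hom := AbRigid.isSeparated_of_grpObj G
  haveI : IsSeparated H.hom := AbRigid.isSeparated_of_grpObj H
  haveI : Flat f.left := AbRigid.flat_of_surjective_of_isReduced G H f
  haveI : QuasiCompact f.left := qc_left f
  haveI := Groth.Agent.FpqcDesc.descendsAlong_isFinite.{u}
  haveI : IsFinite f.left := AbRigid.of_kernel f n hker @IsFinite ‹_›
  haveI hHcomm : IsCommMonObj H := by
    obtain ⟨T, _, i, A, _, q, hi, hic, hT, hq, hqs, hqf, hk, hAp, hAs, hAc⟩ := hH
    haveI := hi; haveI := hic; haveI := hq; haveI := hqs; haveI := hqf; haveI := hAp; haveI := hAs; haveI := hAc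
    haveI := isCommMonObj_of_isProper A
    exact TorusSlice15.isCommMonObj i q hk hT
  haveI : IsCommMonObj G := IsogTransfer19.isCommMonObj_of_isogeny f
  haveI : Mono n := Over.mono_of_mono_left n
  haveI := AbelGrp20.isCommMonObj_of_mono n
  obtain ⟨m, hm, hm'⟩ := hasExp_of_isFinite N
  haveI := isMonHom_pow (𝟙 G) m
  obtain ⟨g, hg, hfg⟩ := CharTorus15.desc_hom n f hker (𝟙 G ^ m) (by
    rw [← pow_map, hm', MonObj.one_comp])
  haveI := hg
  obtain ⟨I, _, j, p, hj, hjc, hp, hps, hpj, hI⟩ := isSA_image hH g
  haveI := hj; haveI := hjc; haveI := hp; haveI := hps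
  obtain ⟨C, _, c, hc, hCc, hCl, hCq, hcf, hcs, hcp, hkc⟩ := exists_quot j
  haveI := hc; haveI := hCl; haveI := hCq; haveI := hcf; haveI := hcs
  haveI := MTExt29.epi_of_cover f
  -- the subgroup surjects onto the target
  haveI : Surjective (j ≫ f).left := by
    have h1 : g ≫ f = 𝟙 H ^ m := by
      rw [← cancel_epi f, ← Category.assoc, hfg, pow_map]
    obtain ⟨-, hs⟩ := flat_surjective_pow hH hm
    haveI := hs
    haveI : Surjective (p.left ≫ (j ≫ f).left) := by
      rw [← Over.comp_left, ← Category.assoc, hpj, h1]; infer_instance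
    exact Surjective.of_comp p.left _
  -- so the quotient is surjected by the kernel
  let P : Over (Spec (CommRingCat.of k)) := pullback f (j ≫ f)
  let a : P ⟶ G := pullback.fst f (j ≫ f)
  let b : P ⟶ I := pullback.snd f (j ≫ f)
  haveI : Surjective a.left :=
    MorphismProperty.of_isPullback (P := @Surjective)
      ((IsPullback.of_hasPullback f (j ≫ f)).flip.map (Over.forget _)) ‹Surjective (j ≫ f).left›
  have hab : a ≫ f = (b ≫ j) ≫ f := by rw [Category.assoc]; exact pullback.condition
  obtain ⟨d, hd⟩ := CharTorus15.exists_lift hker (a * (b ≫ j)⁻¹) (by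
    rw [MonObj.mul_comp, GrpObj.inv_comp, hab, mul_inv_cancel])
  have hac : a ≫ c = d ≫ n ≫ c := by
    rw [← Category.assoc d, hd, MonObj.mul_comp, GrpObj.inv_comp, Category.assoc, CharTorus15.comp_eq_one hkc,
      MonObj.comp_one, inv_one, _root_.mul_one]
  haveI : Surjective (d.left ≫ (n ≫ c).left) := by
    rw [← Over.comp_left, ← hac, Over.comp_left]; infer_instance
  haveI : Surjective (n ≫ c).left := Surjective.of_comp d.left _
  haveI : Finite N.left := by
    have h : N.hom ⁻¹' {IsLocalRing.closedPoint k} = Set.univ :=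
      Set.eq_univ_of_forall fun x => Subsingleton.elim (α := Spec (CommRingCat.of k)) _ _
    exact Set.finite_univ_iff.mp (h ▸ N.hom.finite_preimage_singleton _)
  haveI : Finite C.left := Finite.of_surjective _ (n ≫ c).left.surjective
  haveI : IsSeparated C.hom := AbRigid.isSeparated_of_grpObj C
  haveI : LocallyQuasiFinite C.hom := LocallyQuasiFinite.of_finite_preimage_singleton C.hom fun y => Set.toFinite _
  haveI : IsFinite C.hom := DegRank.isFinite_of_finite C.hom
  haveI : Smooth C.hom := AlgSpDescent.smooth_of_fppf_comp c.left C.hom hcf hcp hcs (by rw [Over.w]; infer_instance)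
  haveI : ConnectedSpace C.left := by
    haveI : PreconnectedSpace C.left := c.left.surjective.denseRange.preconnectedSpace c.left.continuous
    exact { toNonempty := ⟨c.left (Classical.arbitrary G.left)⟩ }
  have hc1 : c = 1 := by rw [← Category.comp_id c, trivial_of_finite_connected C, MonObj.comp_one]
  obtain ⟨l, hl⟩ := CharTorus15.exists_lift hkc (𝟙 G) (by rw [Category.id_comp, hc1])
  haveI : Mono j := Over.mono_of_mono_left j
  haveI : IsIso j := ⟨l, (cancel_mono j).1 (by rw [Category.assoc, hl, Category.comp_id, Category.id_comp]), hl⟩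
  haveI : IsMonHom (inv j) := by rw [← asIso_inv]; infer_instance
  exact isSA_of_iso hI (inv j)

end Groth.Agent.Semiab15
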