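import Groth.Agent.Lib.Semiab15.Basic
import Groth.Agent.Lib.TorusIsog19.Isogeny
import Groth.Agent.Lib.TorPts21.Split
import Groth.Agent.Lib.Isogeny14.Kernel
import Groth.Agent.S14590
import Groth.Agent.S14595

/-!
# Extensions of tori by abelian varieties contain tori
-/

set_option autoImplicit false
set_option maxSynthPendingDepth 3
set_option backward.isDefEq.respectTransparency false

universe u

open CategoryTheory CategoryTheory.Limits MonoidalCategory CartesianMonoidalCategory MonObj GrpObj AlgebraicGeometry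

noncomputable section

namespace Groth.Agent.Semiab15

open DiagGL

variable {k : Type u} [Field k]

/-- The trivial group is a torus. -/
theorem isTorus_unit : Red.IsTorus (𝟙_ (Over (Spec (CommRingCat.of k)))) :=
  TorPts21.isTorus_of_chars (r := 0)
    { ch := fun _ => 1
      nat := fun _ _ _ => by simp
      mul := fun _ _ _ => by simp
      inj := fun {X x y} _ => toUnit_unique _ _
      surj := fun {X} c => ⟨toUnit X, MonoidHom.ext fun a => by
        rw [MonoidHom.one_apply, Subsingleton.elim a 1, map_one]⟩ }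

/-- An abelian variety is semiabelian. -/
theorem isSA_of_isProper (A : Over (Spec (CommRingCat.of k))) [GrpObj A] [IsProper A.hom] [Smooth A.hom]
    [ConnectedSpace ↥A.left] : IsSA A := by
  haveI : IsMonHom η[A] := TorsorSch25.isMonHom_of_points η[A] fun W x y => by
    have h : ∀ z : W ⟶ 𝟙_ (Over (Spec (CommRingCat.of k))), z ≫ η[A] = 1 := fun z => by
      rw [Hom.one_def, toUnit_unique z (toUnit W)]
    rw [h, h, h, _root_.mul_one]
  refine ⟨𝟙_ _, inferInstance, η[A], A, inferInstance, 𝟙 A, inferInstance, inferInstance, isTorus_unit, inferInstance,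
    ?_, ?_, ?_, inferInstance, inferInstance, inferInstance⟩
  · exact inferInstanceAs (Surjective (𝟙 A.left))
  · exact inferInstanceAs (Flat (𝟙 A.left))
  · show IsPullback η[A] (toUnit _) (𝟙 A) η[A]
    rw [toUnit_unique (toUnit _) (𝟙 _)]
    exact IsPullback.of_vert_isIso ⟨by simp⟩

/-- An abelian variety is commutative. -/
theorem isCommMonObj_of_isProper (A : Over (Spec (CommRingCat.of k))) [GrpObj A] [IsProper A.hom] [Smooth A.hom]
    [ConnectedSpace ↥A.left] : IsCommMonObj A := by
  haveI := AbRigid.geometricallyReduced_of_smooth A.hom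
  haveI : GeometricallyIntegral A.hom := AbRigid.geometricallyIntegral_of_connected A
  exact AlgebraicGeometry.isCommMonObj_of_isProper_of_geometricallyIntegral A

/-- Smooth connected groups are geometrically integral. -/
theorem geometricallyIntegral_of_smooth (G : Over (Spec (CommRingCat.of k))) [GrpObj G] [Smooth G.hom]
    [ConnectedSpace ↥G.left] : GeometricallyIntegral G.hom := by
  haveI := AbRigid.geometricallyReduced_of_smooth G.hom
  exact AbRigid.geometricallyIntegral_of_connected G

/-- A morphism to an abelian variety sending the unit to the unit is a homomorphism. -/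
theorem isMonHom_of_one {E A : Over (Spec (CommRingCat.of k))} [GrpObj E] [Smooth E.hom] [QuasiCompact E.hom]
    [ConnectedSpace ↥E.left] [GrpObj A] [IsProper A.hom] [Smooth A.hom] [ConnectedSpace ↥A.left] (f : E ⟶ A)
    (hf : η[E] ≫ f = η[A]) : IsMonHom f := by
  haveI := geometricallyIntegral_of_smooth E
  haveI : IsSeparated E.hom := AbRigid.isSeparated_of_grpObj E
  haveI := isCommMonObj_of_isProper A
  have h := Groth.Agent.S14595.result k E E A (isSA_of_isProper A) η[E] η[E] (μ[E] ≫ f)
  have e1 : lift (𝟙 E) (toUnit E ≫ η[E]) ≫ μ[E] ≫ f = f := by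
    rw [← Category.assoc, lift_comp_one_right, Category.id_comp]
  have e2 : lift (toUnit E ≫ η[E]) (𝟙 E) ≫ μ[E] ≫ f = f := by
    rw [← Category.assoc, lift_comp_one_left, Category.id_comp]
  have e3 : lift η[E] η[E] ≫ μ[E] ≫ f = η[A] := by
    rw [← Category.assoc, ← Hom.mul_def, one_eq_one, _root_.mul_one, ← one_eq_one, hf]
  rw [e1, e2, e3] at h
  rw [show toUnit (E ⊗ E) ≫ η[A] = 1 from (Hom.one_def).symm, _root_.mul_one] at h
  refine ⟨hf, ?_⟩
  letI : CommGroup (E ⊗ E ⟶ A) := Hom.commGroup
  rw [_root_.mul_assoc, ← _root_.mul_inv, mul_inv_eq_one] at h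
  rw [h, Hom.mul_def, lift_fst_comp_snd_comp]

/-- An extension of a torus by an abelian variety contains a torus which maps onto the quotient torus. -/
theorem exists_torus {E A T : Over (Spec (CommRingCat.of k))} [GrpObj E] [GrpObj A] [GrpObj T] [IsCommMonObj E]
    [Smooth E.hom] [QuasiCompact E.hom] [ConnectedSpace ↥E.left] [IsProper A.hom] [Smooth A.hom]
    [ConnectedSpace ↥A.left] (hT : Red.IsTorus T) (j : A ⟶ E) [IsMonHom j] [IsClosedImmersion j.left]
    (q : E ⟶ T) [IsMonHom q] [Flat q.left] [Surjective q.left] (hk : AlgGrp.IsKernel j q) :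
    ∃ (σ : Over (Spec (CommRingCat.of k))) (_ : GrpObj σ) (s : σ ⟶ E), IsMonHom s ∧ IsClosedImmersion s.left ∧
      Red.IsTorus σ ∧ Surjective ((s ⊗ₘ j) ≫ μ[E]).left := by
  obtain ⟨hTl, hTq, -, hTc⟩ := torus_props hT
  haveI := hTl; haveI := hTq; haveI := hTc
  obtain ⟨hTs, hTcn⟩ := TorPts21.smooth_connected_of_isTorus hT
  haveI := hTs; haveI := hTcn
  haveI := geometricallyIntegral_of_smooth E
  haveI := geometricallyIntegral_of_smooth T
  haveI : IsSeparated E.hom := AbRigid.isSeparated_of_grpObj E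
  haveI : IsSeparated T.hom := AbRigid.isSeparated_of_grpObj T
  haveI := isCommMonObj_of_isProper A
  haveI : Mono j := Over.mono_of_mono_left j
  haveI : QuasiCompact q.left := qc_left q
  let a := QuotFlat20.leftAction j
  have hker : ∀ {Z : Over (Spec (CommRingCat.of k))} (z z' : Z ⟶ E),
      z ≫ q = z' ≫ q ↔ ∃ f : Z ⟶ A, (f ≫ j) * z = z' := by
    intro Z z z'
    constructor
    · intro h
      obtain ⟨c, hc⟩ := CharTorus15.exists_lift hk (z' * z⁻¹) (by
        rw [MonObj.mul_comp, GrpObj.inv_comp, h, mul_inv_cancel])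
      exact ⟨c, by rw [hc, inv_mul_cancel_right]⟩
    · rintro ⟨f, rfl⟩
      rw [MonObj.mul_comp, Category.assoc, CharTorus15.comp_eq_one hk, MonObj.comp_one, _root_.one_mul]
  have hpb : IsPullback a.act (snd A E) q q := AbelGrp20.isPullback_of_kernel j hker
  have htors : IsIso (pullback.lift a.act (snd A E) hpb.w) := by
    have e : pullback.lift a.act (snd A E) hpb.w = hpb.isoPullback.hom := by
      apply pullback.hom_ext <;> simp
    rw [e]
    infer_instance
  obtain ⟨φ, n, hn, hφ⟩ := Groth.Agent.S14590.result k A E T a q hpb.w htors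
  let ψ : E ⟶ A := φ * (toUnit E ≫ η[E] ≫ φ)⁻¹
  have hψ1 : η[E] ≫ ψ = η[A] := by
    simp only [ψ, MonObj.comp_mul, GrpObj.comp_inv]
    rw [← Category.assoc η[E] (toUnit E), toUnit_unique (η[E] ≫ toUnit E) (𝟙 _), Category.id_comp, mul_inv_cancel,
      one_eq_one]
  haveI : IsMonHom ψ := isMonHom_of_one ψ hψ1
  have hψj : j ≫ ψ = (𝟙 A) ^ n := by
    have h := hφ A (𝟙 A) (toUnit A ≫ η[E])
    have e : lift (𝟙 A) (toUnit A ≫ η[E]) ≫ a.act = j := by
      show lift (𝟙 A) (toUnit A ≫ η[E]) ≫ ((fst A E ≫ j) * snd A E) = j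
      rw [MonObj.comp_mul, lift_fst_assoc, lift_snd, Category.id_comp, ← Hom.one_def, _root_.mul_one]
    rw [← Category.assoc, e, Category.assoc] at h
    letI : CommGroup (A ⟶ A) := Hom.commGroup
    simp only [ψ, MonObj.comp_mul, GrpObj.comp_inv]
    rw [← Category.assoc j (toUnit E), toUnit_unique (j ≫ toUnit E) (toUnit A), h, mul_inv_cancel_comm]
  -- the endomorphism of `E` killing `A`
  let r : E ⟶ E := (𝟙 E) ^ n * (ψ ≫ j)⁻¹
  haveI : IsMonHom r := by
    haveI := isMonHom_pow (𝟙 E) n
    haveI := isMonHom_inv (ψ ≫ j)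
    exact isMonHom_mul _ _
  have hr : j ≫ r = 1 := by
    simp only [r, MonObj.comp_mul, GrpObj.comp_inv, MonObj.comp_pow, Category.comp_id]
    rw [← Category.assoc, hψj, Isogeny14.hom_pow_comp j, Category.id_comp, mul_inv_cancel]
  obtain ⟨w, hw, hqw⟩ := CharTorus15.desc_hom j q hk r hr
  haveI := hw
  obtain ⟨σ, _, s, p, hs, hsc, hσ, hp, hps, hpw⟩ := exists_image_torus hT w
  haveI := hs; haveI := hsc; haveI := hp; haveI := hps
  refine ⟨σ, inferInstance, s, hs, hsc, hσ, ?_⟩
  -- covering `E` by `n`-th roots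
  obtain ⟨hnf, hns⟩ := TorusIsog19.flat_surjective_pow hT hn
  haveI := hnf; haveI := hns
  let Q : T ⟶ T := (𝟙 T) ^ n
  let sq : E ⊗ A ⟶ E := (fst E A ≫ 𝟙 E ^ n) * (snd E A ≫ j)
  have hsq : Surjective sq.left := by
    let P := pullback q Q
    let u : P ⟶ E := pullback.fst q Q
    let v : P ⟶ T := pullback.snd q Q
    haveI : Surjective Q.left := hns
    haveI hu : Surjective u.left :=
      MorphismProperty.of_isPullback (P := @Surjective) ((IsPullback.of_hasPullback q Q).map (Over.forget _)).flip hns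
    let R := pullback v q
    let a₁ : R ⟶ P := pullback.fst v q
    let b₁ : R ⟶ E := pullback.snd v q
    haveI ha₁ : Surjective a₁.left :=
      MorphismProperty.of_isPullback (P := @Surjective) ((IsPullback.of_hasPullback v q).map (Over.forget _)).flip
        ‹Surjective q.left›
    have h1 : (b₁ ^ n) ≫ q = (a₁ ≫ u) ≫ q := by
      rw [Isogeny14.hom_pow_comp, ← show a₁ ≫ v = b₁ ≫ q from pullback.condition, ← MonObj.comp_pow,
        Category.assoc]
      congr 1
      rw [show u ≫ q = v ≫ Q from pullback.condition]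
      show v ^ n = v ≫ (𝟙 T ^ n)
      rw [MonObj.comp_pow, Category.comp_id]
    obtain ⟨f, hf⟩ := (hker _ _).1 h1
    refine ⟨fun e => ?_⟩
    haveI : Surjective (a₁ ≫ u).left := by rw [Over.comp_left]; infer_instance
    obtain ⟨x, hx⟩ := (a₁ ≫ u).left.surjective e
    refine ⟨(lift b₁ f).left x, ?_⟩
    rw [← Scheme.Hom.comp_apply, ← Over.comp_left]
    have e : lift b₁ f ≫ sq = a₁ ≫ u := by
      letI : CommGroup (R ⟶ E) := Hom.commGroup
      rw [← hf, mul_comm (f ≫ j)]
      simp only [sq, MonObj.comp_mul, MonObj.comp_pow, lift_fst_assoc, lift_snd_assoc, Category.comp_id, lift_fst]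
    rw [e, hx]
  let c : E ⊗ A ⟶ σ ⊗ A := lift (fst E A ≫ q ≫ p) ((fst E A ≫ ψ) * snd E A)
  have hc : c ≫ (s ⊗ₘ j) ≫ μ[E] = sq := by
    have e0 : (s ⊗ₘ j) ≫ μ[E] = (fst σ A ≫ s) * (snd σ A ≫ j) := by
      rw [Hom.mul_def, lift_fst_comp_snd_comp]
    letI : CommGroup (E ⊗ A ⟶ E) := Hom.commGroup
    rw [e0]
    simp only [c, sq, MonObj.comp_mul, lift_fst_assoc, lift_snd_assoc, Category.assoc, MonObj.mul_comp, hpw, hqw]
    simp only [r, MonObj.comp_mul, GrpObj.comp_inv]
    rw [← _root_.mul_assoc, inv_mul_cancel_right]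
  haveI : Surjective (c.left ≫ ((s ⊗ₘ j) ≫ μ[E]).left) := by rw [← Over.comp_left, hc]; exact hsq
  exact Surjective.of_comp c.left _

end Groth.Agent.Semiab15
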