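import Groth.Agent.Lib.Semiab15.Torus
import Groth.Agent.Lib.MTExt29.Scheme

/-!
# Extensions of semiabelian groups
-/

set_option autoImplicit false
set_option maxSynthPendingDepth 3
set_option backward.isDefEq.respectTransparency false

universe u

open CategoryTheory CategoryTheory.Limits MonoidalCategory CartesianMonoidalCategory MonObj GrpObj AlgebraicGeometry

noncomputable section

namespace Groth.Agent.Semiab15

variable {k : Type u} [Field k]

/-- An extension of smooth connected groups is smooth and connected. -/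
theorem smooth_connected_ext {G N Q : Over (Spec (CommRingCat.of k))} [GrpObj G] [GrpObj N] [GrpObj Q]
    [QuasiCompact G.hom] [LocallyOfFiniteType G.hom] (i : N ⟶ G) [IsMonHom i] [IsClosedImmersion i.left]
    [Smooth N.hom] [ConnectedSpace ↥N.left] [Smooth Q.hom] [ConnectedSpace ↥Q.left] (q : G ⟶ Q) [IsMonHom q]
    [Flat q.left] [Surjective q.left] (hker : AlgGrp.IsKernel i q) :
    Smooth G.hom ∧ ConnectedSpace ↥G.left := by
  haveI : QuasiCompact q.left := qc_left q
  haveI : Smooth q.left := AbRigid.of_kernel q i hker @Smooth ‹_›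
  refine ⟨by rw [← Over.w q]; infer_instance, ?_⟩
  haveI : QuasiCompact N.hom := by rw [← Over.w i]; infer_instance
  haveI := AbRigid.geometricallyIrreducible_of_connected N
  haveI := CubeField.geometricallyConnected_of_irreducible N.hom
  refine TorusSlice15.connectedSpace_of_fibres q.left q.left.isOpenMap q.left.surjective fun a => ?_
  obtain ⟨g, rfl⟩ := q.left.surjective a
  haveI : GeometricallyConnected (fst G N).left :=
    inferInstanceAs (GeometricallyConnected (pullback.fst G.hom N.hom))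
  have hconn := ((fst G N).left.isConnected_preimage_singleton g).isPreconnected.image
    (fst G N * (snd G N ≫ i)).left ((fst G N * (snd G N ≫ i)).left.continuous.continuousOn)
  have hp : IsPullback (fst G N).left (fst G N * (snd G N ≫ i)).left q.left q.left :=
    (AbRigid.isPullback_kernelPair q i hker).map (Over.forget _)
  have heq : q.left ⁻¹' {q.left g} = (fst G N * (snd G N ≫ i)).left '' ((fst G N).left ⁻¹' {g}) := by
    ext g'
    constructor
    · intro hg'
      obtain ⟨z, hz1, hz2⟩ := Scheme.Pullback.exists_preimage_pullback (f := q.left) (g := q.left) g g'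
        (Eq.symm hg')
      refine ⟨hp.isoPullback.inv z, ?_, ?_⟩
      · show (fst G N).left _ = g
        rw [← Scheme.Hom.comp_apply, hp.isoPullback_inv_fst]
        exact hz1
      · rw [← Scheme.Hom.comp_apply, hp.isoPullback_inv_snd]
        exact hz2
    · rintro ⟨z, hz, rfl⟩
      have hw' := congrArg (fun m => m z) hp.w
      simp only [Scheme.Hom.comp_apply] at hw'
      show q.left _ = q.left g
      rw [← hw', show (fst G N).left z = g from hz]
  rw [heq]
  exact hconn

/-- Over an algebraically closed field a smooth connected affine extension of tori is a torus. -/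
theorem isTorus_ext_aux {K : Type u} [Field K] [IsAlgClosed K] {M T₁ T₂ : Over (Spec (CommRingCat.of K))}
    [GrpObj M] [GrpObj T₁] [GrpObj T₂] [IsAffine M.left] [Smooth M.hom] [ConnectedSpace ↥M.left]
    (h₁ : Red.IsTorus T₁) (h₂ : Red.IsTorus T₂) (i : T₁ ⟶ M) [IsMonHom i] [IsClosedImmersion i.left]
    (q : M ⟶ T₂) [IsMonHom q] (hk : AlgGrp.IsKernel i q) : Red.IsTorus M := by
  obtain ⟨h₂a, h₂s, h₂c, -⟩ := TorPts21.props_of_isTorus h₂
  haveI := h₂a; haveI := h₂s; haveI := h₂c
  refine Groth.Agent.S8061.result K M fun U _ u _ huc hUs hUc hU => ?_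
  haveI := huc; haveI := hUs; haveI := hUc
  haveI : IsAffine U.left := isAffine_of_isAffineHom u.left
  obtain ⟨H, _, j, p, hjm, hjc, hHr, hsurj, hpj⟩ := BorelFix21.exists_image (u ≫ q)
  haveI := hjm
  haveI := hjc
  haveI := hHr
  haveI := hsurj
  haveI : IsAffine H.left := isAffine_of_isAffineHom j.left
  haveI : LocallyOfFiniteType H.hom := by rw [← Over.w j]; infer_instance
  haveI : Smooth H.hom := GrpSmooth19.smooth_of_isReduced H
  haveI : Mono j := Over.mono_of_mono_left j
  haveI : IsMonHom p := BorelFix21.isMonHom_of_comp j p (hpj ▸ inferInstance)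
  haveI : PreconnectedSpace H.left := p.left.surjective.denseRange.preconnectedSpace p.left.continuous
  haveI : ConnectedSpace H.left := { toNonempty := ⟨p.left (Classical.arbitrary U.left)⟩ }
  have htriv := TorusIsog19.isTrivialGrp_of_le_torus h₂ j (TorPts21.hasNoSubtorus_image p hU)
  have huq : u ≫ q = 1 := by
    rw [← hpj, TorPts21.eq_one_of_isTrivialGrp htriv p, MonObj.one_comp]
  obtain ⟨c, hc⟩ := CharTorus15.exists_lift hk u huq
  haveI : Mono i := Over.mono_of_mono_left i
  haveI : IsMonHom c := BorelFix21.isMonHom_of_comp i c (hc ▸ inferInstance)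
  haveI : IsClosedImmersion (c.left ≫ i.left) := by rw [← Over.comp_left, hc]; infer_instance
  haveI : IsClosedImmersion c.left := IsClosedImmersion.of_comp c.left i.left
  exact TorusIsog19.isTrivialGrp_of_le_torus h₁ c hU

/-- An extension of tori is a torus. -/
theorem isTorus_ext {M T₁ T₂ : Over (Spec (CommRingCat.of k))}
    [GrpObj M] [GrpObj T₁] [GrpObj T₂] [LocallyOfFiniteType M.hom] [QuasiCompact M.hom] (h₁ : Red.IsTorus T₁)
    (h₂ : Red.IsTorus T₂) (i : T₁ ⟶ M) [IsMonHom i] [IsClosedImmersion i.left]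
    (q : M ⟶ T₂) [IsMonHom q] [Flat q.left] [Surjective q.left] (hk : AlgGrp.IsKernel i q) : Red.IsTorus M := by
  obtain ⟨hs₁, hc₁⟩ := TorPts21.smooth_connected_of_isTorus h₁
  obtain ⟨hs₂, hc₂⟩ := TorPts21.smooth_connected_of_isTorus h₂
  haveI := hs₁; haveI := hc₁; haveI := hs₂; haveI := hc₂
  obtain ⟨hMs, hMc⟩ := smooth_connected_ext i q hk
  haveI := hMs; haveI := hMc
  haveI : QuasiCompact q.left := qc_left q
  haveI : IsAffineHom M.hom := MTExt29.isAffineHom_ext q i hk (MTRigid29.isMultTypeFT_of_torus h₁)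
    (MTRigid29.isMultTypeFT_of_torus h₂)
  haveI : IsAffine M.left := isAffine_of_isAffineHom M.hom
  let φ := Spec.map (CommRingCat.ofHom (algebraMap k (AlgebraicClosure k)))
  haveI : IsMonHom ((Over.pullback φ).map i) := inferInstance
  haveI : IsMonHom ((Over.pullback φ).map q) := inferInstance
  haveI : IsClosedImmersion ((Over.pullback φ).map i).left := BorelFix21.isClosedImmersion_bc φ i
  haveI : IsAffine (Red.bc φ M).left := BorelFix21.isAffine_bc φ M
  haveI : Smooth (Red.bc φ M).hom := BorelFix21.smooth_bc φ M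
  haveI : ConnectedSpace (Red.bc φ M).left := BorelFix21.connectedSpace_bc φ M
  refine TorPts21.isTorus_of_bc φ ?_
  exact isTorus_ext_aux (M := Red.bc φ M) (TorPts21.isTorus_bc φ h₁) (TorPts21.isTorus_bc φ h₂)
    ((Over.pullback φ).map i) ((Over.pullback φ).map q) (TorusSlice15.isKernel_bc i q hk φ)

/-- A surjective image of an abelian variety with a separated target is an abelian variety. -/
theorem abelian_of_surjective {A Q : Over (Spec (CommRingCat.of k))} [IsProper A.hom] [Smooth A.hom]
    [ConnectedSpace ↥A.left] [GrpObj Q] [LocallyOfFiniteType Q.hom] [QuasiCompact Q.hom] [Smooth Q.hom]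
    (h : A ⟶ Q) [Surjective h.left] : IsProper Q.hom ∧ ConnectedSpace ↥Q.left := by
  haveI : IsSeparated Q.hom := AbRigid.isSeparated_of_grpObj Q
  haveI : UniversallyClosed (h.left ≫ Q.hom) := by rw [Over.w]; infer_instance
  haveI : UniversallyClosed Q.hom := UniversallyClosed.of_comp_surjective h.left Q.hom
  refine ⟨{}, ?_⟩
  haveI : PreconnectedSpace Q.left := h.left.surjective.denseRange.preconnectedSpace h.left.continuous
  exact { toNonempty := ⟨h.left (Classical.arbitrary A.left)⟩ }

/-- A smooth quotient by a torus onto which an abelian variety surjects gives a semiabelian group. -/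
theorem isSA_of_torus {G σ A : Over (Spec (CommRingCat.of k))} [GrpObj G] [IsCommMonObj G] [GrpObj σ]
    [LocallyOfFiniteType G.hom] [QuasiCompact G.hom] [Smooth G.hom] [IsProper A.hom] [Smooth A.hom]
    [ConnectedSpace ↥A.left]
    (hσ : Red.IsTorus σ) (s : σ ⟶ G) [IsMonHom s] [IsClosedImmersion s.left]
    (h : ∀ (Q : Over (Spec (CommRingCat.of k))) [GrpObj Q] (π : G ⟶ Q) [IsMonHom π] [Surjective π.left],
      s ≫ π = 1 → ∃ g : A ⟶ Q, Surjective g.left) :
    IsSA G := by
  obtain ⟨Q, _, π, hπ, -, hQl, hQq, hπf, hπs, hπp, hk⟩ := exists_quot s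
  haveI := hπ; haveI := hQl; haveI := hQq; haveI := hπs; haveI := hπf
  obtain ⟨g, hg⟩ := h Q π (CharTorus15.comp_eq_one hk)
  haveI := hg
  haveI : Smooth Q.hom := AlgSpDescent.smooth_of_fppf_comp π.left Q.hom hπf hπp hπs
    (by rw [Over.w]; infer_instance)
  obtain ⟨hp, hc⟩ := abelian_of_surjective g
  exact ⟨σ, inferInstance, s, Q, inferInstance, π, inferInstance, inferInstance, hσ, inferInstance, inferInstance,
    inferInstance, hk, hp, inferInstance, hc⟩

/-- The image of a semiabelian group is semiabelian. -/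
theorem isSA_image {P G : Over (Spec (CommRingCat.of k))} [GrpObj P] [GrpObj G] [IsCommMonObj G]
    [LocallyOfFiniteType P.hom] [QuasiCompact P.hom] [LocallyOfFiniteType G.hom] [QuasiCompact G.hom]
    (hP : IsSA P) (f : P ⟶ G) [IsMonHom f] :
    ∃ (I : Over (Spec (CommRingCat.of k))) (_ : GrpObj I) (m : I ⟶ G) (p : P ⟶ I), IsMonHom m ∧
      IsClosedImmersion m.left ∧ IsMonHom p ∧ Surjective p.left ∧ p ≫ m = f ∧ IsSA I := by
  obtain ⟨T, _, i, A, _, q, hi, hic, hT, hq, hqs, hqf, hk, hAp, hAs, hAc⟩ := hP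
  haveI := hi; haveI := hic; haveI := hq; haveI := hqs; haveI := hqf; haveI := hAp; haveI := hAs; haveI := hAc
  haveI := TorusSlice15.isCommMonObj i q hk hT
  haveI : LocallyOfFiniteType T.hom := by rw [← Over.w i]; infer_instance
  obtain ⟨hPs, -⟩ := TorusSlice15.smooth_connected i q hk hT
  haveI := hPs
  obtain ⟨K, _, j, I, _, p, m, -, -, hp, hm, hIc, hIl, hIq, hpf, hps, hpp, -, hmc, hpm⟩ := exists_image f
  haveI := hp; haveI := hm; haveI := hIc; haveI := hIl; haveI := hIq; haveI := hpf; haveI := hps; haveI := hmc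
  refine ⟨I, inferInstance, m, p, hm, hmc, hp, hps, hpm, ?_⟩
  haveI : Smooth I.hom := AlgSpDescent.smooth_of_fppf_comp p.left I.hom hpf hpp hps (by rw [Over.w]; infer_instance)
  obtain ⟨σ, _, s, t, hs, hsc, hσ, -, -, hts⟩ := exists_image_torus hT (i ≫ p)
  haveI := hs; haveI := hsc
  refine isSA_of_torus (A := A) hσ s fun Q _ π _ hπs hsπ => ?_
  haveI := hπs
  haveI : QuasiCompact q.left := qc_left q
  obtain ⟨g, -, hg⟩ := CharTorus15.desc_hom i q hk (p ≫ π) (by
    rw [← Category.assoc, ← hts, Category.assoc, hsπ, MonObj.comp_one])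
  haveI : Surjective (q.left ≫ g.left) := by
    rw [← Over.comp_left, hg, Over.comp_left]
    infer_instance
  exact ⟨g, Surjective.of_comp q.left g.left⟩

/-- The preimage of a subgroup of the quotient. -/
theorem exists_preimage {S P R T : Over (Spec (CommRingCat.of k))} [GrpObj S] [GrpObj P] [GrpObj R] [GrpObj T]
    [IsCommMonObj P] [IsCommMonObj R] [LocallyOfFiniteType P.hom] [QuasiCompact P.hom] [LocallyOfFiniteType R.hom]
    [QuasiCompact R.hom] (a : S ⟶ P) [IsMonHom a] [IsClosedImmersion a.left] (b : P ⟶ R) [IsMonHom b] [Flat b.left]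
    [Surjective b.left] (hab : AlgGrp.IsKernel a b) (i : T ⟶ R) [IsMonHom i] [IsClosedImmersion i.left] :
    ∃ (P' : Over (Spec (CommRingCat.of k))) (_ : GrpObj P') (j' : P' ⟶ P) (b' : P' ⟶ T) (a' : S ⟶ P'),
      IsMonHom j' ∧ IsClosedImmersion j'.left ∧ IsMonHom b' ∧ IsMonHom a' ∧ IsClosedImmersion a'.left ∧
      IsCommMonObj P' ∧ LocallyOfFiniteType P'.hom ∧ QuasiCompact P'.hom ∧
      a' ≫ j' = a ∧ IsPullback j' b' b i ∧ Flat b'.left ∧ Surjective b'.left ∧ AlgGrp.IsKernel a' b' := by
  obtain ⟨C, _, c, hc, -, -, -, -, -, -, hk⟩ := exists_quot i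
  haveI := hc
  haveI : Mono i := Over.mono_of_mono_left i
  obtain ⟨P', _, j', hj', hj'c, hkP'⟩ := CharTorus15.exists_kernel (b ≫ c)
  haveI := hj'; haveI := hj'c
  haveI : Mono j' := Over.mono_of_mono_left j'
  haveI := AbelGrp20.isCommMonObj_of_mono j'
  have hj'b : (j' ≫ b) ≫ c = 1 := by rw [Category.assoc, CharTorus15.comp_eq_one hkP']
  obtain ⟨b', hb'⟩ := CharTorus15.exists_lift hk (j' ≫ b) hj'b
  haveI : IsMonHom b' := BorelFix21.isMonHom_of_comp i b' (hb' ▸ inferInstance)
  have hsq : IsPullback j' b' b i := by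
    refine ⟨⟨hb'.symm⟩, ⟨PullbackCone.IsLimit.mk _ (fun w => hkP'.lift w.fst (toUnit _) (by
      rw [← Category.assoc, w.condition, Category.assoc, CharTorus15.comp_eq_one hk, MonObj.comp_one,
        Hom.one_def])) (fun w => hkP'.lift_fst _ _ _) (fun w => ?_) fun w m h1 h2 => ?_⟩⟩
    · rw [← cancel_mono i, Category.assoc, hb', ← Category.assoc]
      rw [hkP'.lift_fst]
      exact w.condition
    · exact hkP'.hom_ext (h1.trans (hkP'.lift_fst _ _ _).symm) (toUnit_unique _ _)
  haveI : Flat b'.left := MorphismProperty.of_isPullback (P := @Flat) (hsq.map (Over.forget _)) ‹Flat b.left›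
  haveI : Surjective b'.left :=
    MorphismProperty.of_isPullback (P := @Surjective) (hsq.map (Over.forget _)) ‹Surjective b.left›
  obtain ⟨a', ha'⟩ := CharTorus15.exists_lift hkP' a (by
    rw [← Category.assoc, CharTorus15.comp_eq_one hab, MonObj.one_comp])
  haveI : IsMonHom a' := BorelFix21.isMonHom_of_comp j' a' (ha' ▸ inferInstance)
  haveI : IsClosedImmersion (a'.left ≫ j'.left) := by rw [← Over.comp_left, ha']; infer_instance
  haveI : IsClosedImmersion a'.left := IsClosedImmersion.of_comp a'.left j'.left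
  haveI : Mono a := Over.mono_of_mono_left a
  have hw : a' ≫ b' = 1 := by
    rw [← cancel_mono i, Category.assoc, hb', ← Category.assoc, ha', CharTorus15.comp_eq_one hab, MonObj.one_comp]
  have hker : AlgGrp.IsKernel a' b' := by
    refine ⟨⟨by rw [hw, Hom.one_def]⟩, ⟨PullbackCone.IsLimit.mk _ (fun w => hab.lift (w.fst ≫ j') (toUnit _) (by
      rw [Category.assoc, ← hb', ← Category.assoc, w.condition, Category.assoc, IsMonHom.one_hom,
        toUnit_unique w.snd (toUnit _)])) (fun w => ?_) (fun w => toUnit_unique _ _) fun w m h1 _ => ?_⟩⟩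
    · rw [← cancel_mono j', Category.assoc, ha']
      exact hab.lift_fst _ _ _
    · rw [← cancel_mono a]
      refine Eq.trans ?_ (hab.lift_fst _ _ _).symm
      rw [← ha', ← Category.assoc, h1]
  exact ⟨P', inferInstance, j', b', a', hj', hj'c, inferInstance, inferInstance, inferInstance, inferInstance,
    by rw [← Over.w j']; infer_instance, by rw [← Over.w j']; infer_instance, ha', hsq, inferInstance, inferInstance,
    hker⟩

/-- An extension of semiabelian groups in a commutative group is semiabelian. -/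
theorem isSA_ext {S P R : Over (Spec (CommRingCat.of k))} [GrpObj S] [GrpObj P] [GrpObj R] [IsCommMonObj P]
    [LocallyOfFiniteType P.hom] [QuasiCompact P.hom] [LocallyOfFiniteType R.hom] [QuasiCompact R.hom]
    (hS : IsSA S) (hR : IsSA R) (a : S ⟶ P) [IsMonHom a]
    [IsClosedImmersion a.left] (b : P ⟶ R) [IsMonHom b] [Flat b.left] [Surjective b.left]
    (hab : AlgGrp.IsKernel a b) : IsSA P := by
  obtain ⟨T₁, _, i₁, A₁, _, q₁, hi₁, hi₁c, hT₁, hq₁, hq₁s, hq₁f, hk₁, hA₁p, hA₁s, hA₁c⟩ := hS
  obtain ⟨T₂, _, i₂, A₂, _, q₂, hi₂, hi₂c, hT₂, hq₂, hq₂s, hq₂f, hk₂, hA₂p, hA₂s, hA₂c⟩ := hR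
  haveI := hi₁; haveI := hi₁c; haveI := hq₁; haveI := hq₁s; haveI := hq₁f; haveI := hA₁p; haveI := hA₁s; haveI := hA₁c
  haveI := hi₂; haveI := hi₂c; haveI := hq₂; haveI := hq₂s; haveI := hq₂f; haveI := hA₂p; haveI := hA₂s; haveI := hA₂c
  haveI : LocallyOfFiniteType S.hom := by rw [← Over.w a]; infer_instance
  haveI : QuasiCompact S.hom := by rw [← Over.w a]; infer_instance
  haveI : LocallyOfFiniteType T₁.hom := by rw [← Over.w i₁]; infer_instance
  haveI : LocallyOfFiniteType T₂.hom := by rw [← Over.w i₂]; infer_instance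
  haveI := TorusSlice15.isCommMonObj i₂ q₂ hk₂ hT₂
  haveI := isCommMonObj_of_isProper A₁
  haveI := isCommMonObj_of_isProper A₂
  obtain ⟨hT₂l, hT₂q, -, hT₂c⟩ := torus_props hT₂
  haveI := hT₂q; haveI := hT₂c
  obtain ⟨hT₂s, hT₂n⟩ := TorPts21.smooth_connected_of_isTorus hT₂
  haveI := hT₂s; haveI := hT₂n
  obtain ⟨hSs, hSc⟩ := TorusSlice15.smooth_connected i₁ q₁ hk₁ hT₁
  obtain ⟨hRs, hRc⟩ := TorusSlice15.smooth_connected i₂ q₂ hk₂ hT₂
  haveI := hSs; haveI := hSc; haveI := hRs; haveI := hRc
  obtain ⟨hPs, hPc⟩ := smooth_connected_ext a b hab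
  haveI := hPs; haveI := hPc
  -- the preimage of the torus of the quotient
  obtain ⟨P', _, j', b', a', hj', hj'c, hb', ha', ha'c, hP'c, hP'l, hP'q, ha'j, hsq, hb'f, hb's, hab'⟩ :=
    exists_preimage a b hab i₂
  haveI := hj'; haveI := hj'c; haveI := hb'; haveI := ha'; haveI := ha'c; haveI := hP'c; haveI := hP'l; haveI := hP'q
  haveI := hb'f; haveI := hb's
  haveI : IsClosedImmersion (i₁ ≫ a').left := by rw [Over.comp_left]; infer_instance
  obtain ⟨E, _, π₀, hπ₀, hEc, hEl, hEq, hπ₀f, hπ₀s, hπ₀p, hkE⟩ := exists_quot (i₁ ≫ a')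
  haveI := hπ₀; haveI := hEc; haveI := hEl; haveI := hEq; haveI := hπ₀f; haveI := hπ₀s
  haveI : QuasiCompact q₁.left := qc_left q₁
  haveI : QuasiCompact π₀.left := qc_left π₀
  haveI : QuasiCompact b'.left := qc_left b'
  obtain ⟨j, hj, hjq⟩ := CharTorus15.desc_hom i₁ q₁ hk₁ (a' ≫ π₀) (by
    rw [← Category.assoc, CharTorus15.comp_eq_one hkE])
  haveI := hj
  haveI : Mono a' := Over.mono_of_mono_left a'
  haveI : Mono j := by
    have h1 : ∀ {W : Over (Spec (CommRingCat.of k))} (x : W ⟶ A₁), x ≫ j = 1 → x = 1 := fun {W} x hx => by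
      let t := pullback.fst x q₁
      let x' := pullback.snd x q₁
      haveI : Flat t.left :=
        MorphismProperty.of_isPullback (P := @Flat) ((IsPullback.of_hasPullback x q₁).map (Over.forget _)).flip ‹_›
      haveI : Surjective t.left :=
        MorphismProperty.of_isPullback (P := @Surjective) ((IsPullback.of_hasPullback x q₁).map (Over.forget _)).flip ‹_›
      haveI : QuasiCompact t.left :=
        MorphismProperty.of_isPullback (P := @QuasiCompact) ((IsPullback.of_hasPullback x q₁).map (Over.forget _)).flip ‹_›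
      haveI := MTExt29.epi_of_cover t
      have e : (x' ≫ a') ≫ π₀ = 1 := by
        rw [Category.assoc, ← hjq, ← Category.assoc, show x' ≫ q₁ = t ≫ x from pullback.condition.symm, Category.assoc,
          hx, MonObj.comp_one]
      obtain ⟨c, hc⟩ := CharTorus15.exists_lift hkE (x' ≫ a') e
      rw [← Category.assoc, cancel_mono] at hc
      rw [← cancel_epi t, show t ≫ x = x' ≫ q₁ from pullback.condition, ← hc, Category.assoc,
        CharTorus15.comp_eq_one hk₁, MonObj.comp_one, MonObj.comp_one]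
    exact ⟨fun x y h => inv_mul_eq_one.1 (h1 (x⁻¹ * y) (by rw [MonObj.mul_comp, GrpObj.inv_comp, h, inv_mul_cancel]))⟩
  haveI : QuasiCompact A₁.hom := inferInstance
  haveI : IsClosedImmersion j.left := isClosedImmersion_of_trivial_kernel j
  obtain ⟨q', hq', hπq'⟩ := CharTorus15.desc_hom (i₁ ≫ a') π₀ hkE b' (by
    rw [Category.assoc, CharTorus15.comp_eq_one hab', MonObj.comp_one])
  haveI := hq'
  haveI : Flat (π₀ ≫ q').left := by rw [hπq']; infer_instance
  haveI : Surjective (π₀ ≫ q').left := by rw [hπq']; infer_instance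
  haveI : QuasiCompact (π₀ ≫ q').left := by rw [hπq']; infer_instance
  haveI : QuasiCompact q'.left := qc_left q'
  obtain ⟨hq'f, hq's⟩ := TorusIsog19.flat_surjective_of_factor q' π₀
  haveI := hq'f; haveI := hq's
  have hkq' : AlgGrp.IsKernel j q' := by
    have hw : j ≫ q' = 1 := by
      haveI := MTExt29.epi_of_cover q₁
      rw [← cancel_epi q₁, ← Category.assoc, hjq, Category.assoc, hπq', CharTorus15.comp_eq_one hab', MonObj.comp_one]
    have hl : ∀ {W : Over (Spec (CommRingCat.of k))} (x : W ⟶ E), x ≫ q' = 1 → ∃ l, l ≫ j = x := fun {W} x hx => by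
      let t := pullback.fst x π₀
      let z := pullback.snd x π₀
      haveI : Flat t.left :=
        MorphismProperty.of_isPullback (P := @Flat) ((IsPullback.of_hasPullback x π₀).map (Over.forget _)).flip ‹_›
      haveI : Surjective t.left :=
        MorphismProperty.of_isPullback (P := @Surjective) ((IsPullback.of_hasPullback x π₀).map (Over.forget _)).flip ‹_›
      haveI : QuasiCompact t.left :=
        MorphismProperty.of_isPullback (P := @QuasiCompact) ((IsPullback.of_hasPullback x π₀).map (Over.forget _)).flip ‹_›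
      have htx : t ≫ x = z ≫ π₀ := pullback.condition
      obtain ⟨c, hc⟩ := CharTorus15.exists_lift hab' z (by
        rw [← hπq', ← Category.assoc, ← htx, Category.assoc, hx, MonObj.comp_one])
      have hy : (c ≫ q₁) ≫ j = t ≫ x := by rw [Category.assoc, hjq, ← Category.assoc, hc, htx]
      obtain ⟨l, hl⟩ := MTExt29.exists_desc t (c ≫ q₁) fun {V} u v huv => by
        rw [← cancel_mono j, Category.assoc, hy, Category.assoc, hy, reassoc_of% huv]
      haveI := MTExt29.epi_of_cover t
      exact ⟨l, by rw [← cancel_epi t, ← Category.assoc, hl, hy]⟩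
    have hc : ∀ w : PullbackCone q' η[T₂], w.fst ≫ q' = 1 := fun w => by
      rw [w.condition, Hom.one_def, toUnit_unique w.snd (toUnit _)]
    refine ⟨⟨by rw [hw, Hom.one_def]⟩, ⟨PullbackCone.IsLimit.mk _ (fun w => (hl w.fst (hc w)).choose)
      (fun w => (hl w.fst (hc w)).choose_spec) (fun w => toUnit_unique _ _)
      fun w m h1 _ => (cancel_mono j).1 (h1.trans (hl w.fst (hc w)).choose_spec.symm)⟩⟩
  obtain ⟨hEs, hEn⟩ := smooth_connected_ext j q' hkq'
  haveI := hEs; haveI := hEn
  obtain ⟨σ, _, s, hs, hsc, hσ, hcov⟩ := exists_torus hT₂ j q' hkq'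
  haveI := hs; haveI := hsc
  haveI : QuasiCompact σ.hom := by rw [← Over.w s]; infer_instance
  -- the torus of the extension
  obtain ⟨M, _, jM, bM, aM, hjM, hjMc, hbM, haM, haMc, hMc, hMl, hMq, haMj, hsqM, hbMf, hbMs, habM⟩ :=
    exists_preimage (i₁ ≫ a') π₀ hkE s
  haveI := hjM; haveI := hjMc; haveI := hbM; haveI := haM; haveI := haMc; haveI := hMc; haveI := hMl; haveI := hMq
  haveI := hbMf; haveI := hbMs
  have hMT : Red.IsTorus M := isTorus_ext hT₁ hσ aM bM habM
  haveI : IsClosedImmersion (jM ≫ j').left := by rw [Over.comp_left]; infer_instance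
  obtain ⟨Q, _, π, hπ, hQc, hQl, hQq, hπf, hπs, hπp, hkQ⟩ := exists_quot (jM ≫ j')
  haveI := hπ; haveI := hQc; haveI := hQl; haveI := hQq; haveI := hπf; haveI := hπs
  haveI : Smooth Q.hom := AlgSpDescent.smooth_of_fppf_comp π.left Q.hom hπf hπp hπs (by rw [Over.w]; infer_instance)
  haveI : QuasiCompact π.left := qc_left π
  have hbM1 : (jM ≫ j') ≫ b ≫ q₂ = 1 := by
    rw [Category.assoc, ← Category.assoc j', hsq.w, Category.assoc, CharTorus15.comp_eq_one hk₂, MonObj.comp_one,
      MonObj.comp_one]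
  obtain ⟨ρ, hρ, hπρ⟩ := CharTorus15.desc_hom (jM ≫ j') π hkQ (b ≫ q₂) hbM1
  haveI := hρ
  haveI : QuasiCompact b.left := qc_left b
  haveI : QuasiCompact q₂.left := qc_left q₂
  haveI : Flat (π ≫ ρ).left := by rw [hπρ, Over.comp_left]; infer_instance
  haveI : Surjective (π ≫ ρ).left := by rw [hπρ, Over.comp_left]; infer_instance
  haveI : QuasiCompact (π ≫ ρ).left := by rw [hπρ, Over.comp_left]; infer_instance
  haveI : QuasiCompact ρ.left := qc_left ρ
  obtain ⟨hρf, hρs⟩ := TorusIsog19.flat_surjective_of_factor ρ π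
  haveI := hρf; haveI := hρs
  obtain ⟨K, _, κ, hκ, hκc, hkκ⟩ := CharTorus15.exists_kernel ρ
  haveI := hκ; haveI := hκc
  haveI : Mono κ := Over.mono_of_mono_left κ
  -- the kernel is an image of `A₁`
  obtain ⟨g', hg'⟩ := CharTorus15.exists_lift hkκ (j' ≫ π) (by
    rw [Category.assoc, hπρ, ← Category.assoc, hsq.w, Category.assoc, CharTorus15.comp_eq_one hk₂, MonObj.comp_one])
  haveI : IsMonHom g' := BorelFix21.isMonHom_of_comp κ g' (hg' ▸ inferInstance)
  have hsqK : IsPullback j' g' π κ := by
    have hw : ∀ w : PullbackCone π κ, ∃ l : w.pt ⟶ T₂, l ≫ i₂ = w.fst ≫ b := fun w =>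
      CharTorus15.exists_lift hk₂ (w.fst ≫ b) (by
        rw [Category.assoc, ← hπρ, ← Category.assoc, w.condition, Category.assoc, CharTorus15.comp_eq_one hkκ,
          MonObj.comp_one])
    refine ⟨⟨hg'.symm⟩, ⟨PullbackCone.IsLimit.mk _ (fun w => hsq.lift w.fst (hw w).choose (hw w).choose_spec.symm)
      (fun w => hsq.lift_fst _ _ _) (fun w => ?_) fun w m h1 h2 => ?_⟩⟩
    · rw [← cancel_mono κ, Category.assoc, hg', ← Category.assoc, hsq.lift_fst]
      exact w.condition
    · haveI : Mono j' := Over.mono_of_mono_left j'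
      exact (cancel_mono j').1 (h1.trans (hsq.lift_fst _ _ _).symm)
  haveI : Surjective g'.left :=
    MorphismProperty.of_isPullback (P := @Surjective) (hsqK.map (Over.forget _)) ‹Surjective π.left›
  obtain ⟨g, hg, hπg⟩ := CharTorus15.desc_hom (i₁ ≫ a') π₀ hkE g' (by
    rw [← cancel_mono κ, MonObj.one_comp, Category.assoc, hg', ← haMj]
    simp only [Category.assoc]
    rw [← Category.assoc jM j', CharTorus15.comp_eq_one hkQ, MonObj.comp_one])
  haveI := hg
  have hsg : s ≫ g = 1 := by
    haveI := qc_left bM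
    haveI := MTExt29.epi_of_cover bM
    rw [← cancel_epi bM, ← Category.assoc, ← hsqM.w, Category.assoc, hπg, MonObj.comp_one, ← cancel_mono κ,
      Category.assoc, hg', MonObj.one_comp, ← Category.assoc, CharTorus15.comp_eq_one hkQ]
  haveI : Surjective g.left := by
    haveI : Surjective (π₀.left ≫ g.left) := by rw [← Over.comp_left, hπg]; infer_instance
    exact Surjective.of_comp π₀.left g.left
  haveI : Surjective (j ≫ g).left := by
    haveI := hcov
    have e : ((s ⊗ₘ j) ≫ μ[E]) ≫ g = snd σ A₁ ≫ (j ≫ g) := by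
      have e0 : (s ⊗ₘ j) ≫ μ[E] = (fst σ A₁ ≫ s) * (snd σ A₁ ≫ j) := by
        rw [Hom.mul_def, lift_fst_comp_snd_comp]
      rw [e0, MonObj.mul_comp, Category.assoc, hsg, MonObj.comp_one, _root_.one_mul, Category.assoc]
    haveI : Surjective (((s ⊗ₘ j) ≫ μ[E]) ≫ g).left := by rw [Over.comp_left]; infer_instance
    rw [e, Over.comp_left] at this
    exact Surjective.of_comp (snd σ A₁).left _
  haveI : LocallyOfFiniteType K.hom := by rw [← Over.w κ]; infer_instance
  haveI : QuasiCompact K.hom := by rw [← Over.w κ]; infer_instance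
  haveI : IsSeparated K.hom := AbRigid.isSeparated_of_grpObj K
  haveI : UniversallyClosed ((j ≫ g).left ≫ K.hom) := by rw [Over.w]; infer_instance
  haveI : UniversallyClosed K.hom := UniversallyClosed.of_comp_surjective (j ≫ g).left K.hom
  haveI : IsProper K.hom := {}
  haveI := @FpqcDesc.descendsAlong_isProper.{u}
  haveI : IsProper ρ.left := AbRigid.of_kernel ρ κ hkκ @IsProper inferInstance
  haveI : IsProper Q.hom := by rw [← Over.w ρ]; infer_instance
  haveI : ConnectedSpace Q.left := by
    haveI : PreconnectedSpace Q.left := π.left.surjective.denseRange.preconnectedSpace π.left.continuous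
    exact { toNonempty := ⟨π.left (Classical.arbitrary P.left)⟩ }
  exact ⟨M, inferInstance, jM ≫ j', Q, inferInstance, π, inferInstance, inferInstance, hMT, inferInstance,
    inferInstance, inferInstance, hkQ, inferInstance, inferInstance, inferInstance⟩

end Groth.Agent.Semiab15
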