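import Groth.Agent.Lib.Semiab15.SubExt
import Groth.Agent.S11397

/-!
# Commutative smooth connected groups are extensions of abelian varieties by affine groups
-/

set_option autoImplicit false
set_option maxSynthPendingDepth 3
set_option backward.isDefEq.respectTransparency false

universe u

open CategoryTheory CategoryTheory.Limits MonoidalCategory CartesianMonoidalCategory MonObj GrpObj AlgebraicGeometry

noncomputable section

namespace Groth.Agent.Semiab15

variable {k : Type u} [Field k]

/-- An extension of an affine group by an affine group is affine. -/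
theorem isAffine_ext {G N Q : Over (Spec (CommRingCat.of k))} [GrpObj G] [GrpObj N] [GrpObj Q]
    [QuasiCompact G.hom] [IsAffine N.left] [IsAffine Q.left] (i : N ⟶ G) [IsMonHom i] (q : G ⟶ Q) [IsMonHom q]
    [Flat q.left] [Surjective q.left] (hk : AlgGrp.IsKernel i q) : IsAffine G.left := by
  haveI : QuasiCompact q.left := qc_left q
  haveI := Groth.Agent.FpqcDesc.descendsAlong_isAffineHom.{u}
  haveI : IsAffineHom q.left := AbRigid.of_kernel q i hk @IsAffineHom inferInstance
  exact isAffine_of_isAffineHom q.left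

/-- Over an algebraically closed field a commutative smooth connected group is an extension of an abelian variety by
a smooth connected affine group. -/
theorem exists_chevalley [IsAlgClosed k] (G : Over (Spec (CommRingCat.of k))) [GrpObj G] [IsCommMonObj G]
    [Smooth G.hom] [QuasiCompact G.hom] [ConnectedSpace ↥G.left] :
    ∃ (B : Over (Spec (CommRingCat.of k))) (_ : GrpObj B) (b : B ⟶ G) (A : Over (Spec (CommRingCat.of k)))
      (_ : GrpObj A) (q : G ⟶ A), IsMonHom b ∧ IsClosedImmersion b.left ∧ Smooth B.hom ∧ ConnectedSpace ↥B.left ∧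
      IsAffine B.left ∧ IsMonHom q ∧ Flat q.left ∧ Surjective q.left ∧ AlgGrp.IsKernel b q ∧ IsProper A.hom ∧
      Smooth A.hom ∧ ConnectedSpace ↥A.left := by
  haveI : IsLocallyNoetherian G.left := LocallyOfFiniteType.isLocallyNoetherian G.hom
  let 𝒮 : Set (Set G.left) := {r | ∃ (H : Over (Spec (CommRingCat.of k))) (_ : GrpObj H) (h : H ⟶ G), IsMonHom h ∧
    IsClosedImmersion h.left ∧ Smooth H.hom ∧ ConnectedSpace ↥H.left ∧ IsAffine H.left ∧ Set.range h.left = r}
  have hne : 𝒮.Nonempty := by
    haveI : Smooth (𝟙_ (Over (Spec (CommRingCat.of k)))).hom := inferInstanceAs (Smooth (𝟙 (Spec (CommRingCat.of k))))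
    haveI : ConnectedSpace ↥(𝟙_ (Over (Spec (CommRingCat.of k)))).left :=
      inferInstanceAs (ConnectedSpace ↥(Spec (CommRingCat.of k)))
    haveI : IsAffine (𝟙_ (Over (Spec (CommRingCat.of k)))).left := inferInstanceAs (IsAffine (Spec (CommRingCat.of k)))
    haveI : IsMonHom η[G] := TorsorSch25.isMonHom_of_points η[G] fun W x y => by
      have h : ∀ z : W ⟶ 𝟙_ (Over (Spec (CommRingCat.of k))), z ≫ η[G] = 1 := fun z => by
        rw [Hom.one_def, toUnit_unique z (toUnit W)]
      rw [h, h, h, _root_.mul_one]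
    exact ⟨_, 𝟙_ _, inferInstance, η[G], inferInstance, AbelGrp20.isClosedImmersion_one G, inferInstance,
      inferInstance, inferInstance, rfl⟩
  obtain ⟨r₀, ⟨B, gB, b, hb, hbc, hBs, hBn, hBa, hr₀⟩, hmax⟩ := AbRigid.exists_maximal_of_irreducible
    (η[G].left (IsLocalRing.closedPoint k)) 𝒮 hne
    (by rintro _ ⟨Z, _, i, -, hci, -, -, -, rfl⟩; exact i.left.isClosedEmbedding.isClosed_range)
    (by
      rintro _ ⟨Z, _, i, hi, hci, h1, h2, -, rfl⟩
      haveI := h1; haveI := h2; haveI := hci
      haveI := geometricallyIntegral_of_smooth Z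
      haveI : IsIntegral Z.left := GeometricallyIntegral.isIntegral_of_subsingleton Z.hom
      rw [← Set.image_univ]
      exact (IrreducibleSpace.isIrreducible_univ _).image _ i.left.continuous.continuousOn)
    (by
      rintro _ ⟨Z, _, i, hi, -, -, -, -, rfl⟩
      exact ⟨η[Z].left (IsLocalRing.closedPoint k), by rw [← AbRigid.left_comp_apply, IsMonHom.one_hom]⟩)
  haveI := hb; haveI := hbc; haveI := hBs; haveI := hBn; haveI := hBa
  obtain ⟨A, _, q, hq, hAc, hAl, hAq, hqf, hqs, hqp, hk⟩ := exists_quot b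
  haveI := hq; haveI := hAc; haveI := hAl; haveI := hAq; haveI := hqf; haveI := hqs
  haveI : Smooth A.hom := AlgSpDescent.smooth_of_fppf_comp q.left A.hom hqf hqp hqs (by rw [Over.w]; infer_instance)
  haveI : ConnectedSpace A.left := by
    haveI : PreconnectedSpace A.left := q.left.surjective.denseRange.preconnectedSpace q.left.continuous
    exact { toNonempty := ⟨q.left (Classical.arbitrary G.left)⟩ }
  refine ⟨B, gB, b, A, inferInstance, q, hb, hbc, hBs, hBn, hBa, hq, hqf, hqs, hk, ?_, inferInstance, inferInstance⟩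
  by_contra hp
  obtain ⟨H, _, a, ha, hac, hHs, hHa, hdim⟩ := Groth.Agent.S11397.result k A hp
  haveI := ha; haveI := hac; haveI := hHs; haveI := hHa
  haveI : QuasiCompact H.hom := by rw [← Over.w a]; infer_instance
  obtain ⟨H₀, _, j₀, hj₀, hj₀o, hj₀c, hH₀s, hH₀q, hH₀n⟩ := Chevalley25.exists_neutral (G := H)
  haveI := hj₀; haveI := hj₀o; haveI := hj₀c; haveI := hH₀s; haveI := hH₀q; haveI := hH₀n
  haveI : IsAffine H₀.left := isAffine_of_isAffineHom j₀.left
  haveI : IsClosedImmersion (j₀ ≫ a).left := by rw [Over.comp_left]; infer_instance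
  obtain ⟨P, _, j', b', a', hj', hj'c, hb', ha', ha'c, hPc, hPl, hPq, ha'j, -, hb'f, hb's, hab'⟩ :=
    exists_preimage b q hk (j₀ ≫ a)
  haveI := hj'; haveI := hj'c; haveI := hb'; haveI := ha'; haveI := ha'c; haveI := hPl; haveI := hPq
  haveI := hb'f; haveI := hb's
  obtain ⟨hPs, hPn⟩ := smooth_connected_ext a' b' hab'
  haveI := hPs; haveI := hPn
  haveI := geometricallyIntegral_of_smooth P
  haveI : IsIntegral P.left := GeometricallyIntegral.isIntegral_of_subsingleton P.hom
  have hle : r₀ ⊆ Set.range j'.left := by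
    rw [← hr₀, ← ha'j]
    rintro _ ⟨x, rfl⟩
    exact ⟨a'.left x, (AbRigid.left_comp_apply a' j' x).symm⟩
  have hge : Set.range j'.left ⊆ r₀ :=
    hmax ⟨P, inferInstance, j', hj', hj'c, hPs, hPn, isAffine_ext a' b' hab', rfl⟩ hle
  haveI : Surjective a'.left := ⟨fun z => by
    obtain ⟨m, hm⟩ := hr₀.ge (hge ⟨z, rfl⟩)
    refine ⟨m, j'.left.isClosedEmbedding.injective ?_⟩
    rw [← AbRigid.left_comp_apply, ha'j, hm]⟩
  haveI : IsIso a'.left := isIso_of_isClosedImmersion_of_surjective a'.left
  haveI : IsIso ((Over.forget _).map a') := ‹IsIso a'.left›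
  haveI : IsIso a' := isIso_of_reflects_iso a' (Over.forget _)
  have h1 : b' = 1 := by rw [← cancel_epi a', CharTorus15.comp_eq_one hab', MonObj.comp_one]
  haveI : QuasiCompact b'.left := qc_left b'
  haveI := MTExt29.epi_of_cover b'
  have hH1 : 𝟙 H₀ = 1 := by rw [← cancel_epi b', Category.comp_id, MonObj.comp_one, h1]
  haveI : Subsingleton H₀.left := by
    refine ⟨fun x y => ?_⟩
    have ha : ∀ z : H₀.left, z = η[H₀].left (IsLocalRing.closedPoint k) := fun z => by
      conv_lhs => rw [show z = (𝟙 H₀ : H₀ ⟶ H₀).left z from rfl, hH1, Hom.one_def, AbRigid.left_comp_apply]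
      congr 1
      exact Subsingleton.elim (α := PrimeSpectrum k) _ _
    rw [ha x, ha y]
  haveI : JacobsonSpace H.left := LocallyOfFiniteType.jacobsonSpace H.hom
  have hopen : ∀ x : H.left, IsOpen ({x} : Set H.left) := fun x => by
    obtain ⟨t, y, hy⟩ := Chevalley25.exists_translate H j₀ x
    haveI : IsOpenImmersion (j₀ ≫ Chevalley25.tau t).left := by rw [Over.comp_left]; infer_instance
    convert (j₀ ≫ Chevalley25.tau t).left.isOpenEmbedding.isOpen_range
    ext z
    constructor
    · rintro rfl; exact ⟨y, hy⟩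
    · rintro ⟨w, rfl⟩; rw [Set.mem_singleton_iff, ← hy, Subsingleton.elim w y]
  haveI : DiscreteTopology H.left := discreteTopology_iff_isOpen_singleton.2 hopen
  have h0 : topologicalKrullDim ↥H.left ≤ 0 := by
    refine Order.krullDim_nonpos_iff_forall_isMax.2 fun c d hcd x hx => ?_
    obtain ⟨y, hy⟩ := c.2.nonempty
    have hs : (d : Set H.left).Subsingleton := isPreirreducible_iff_subsingleton.1 d.2.isPreirreducible
    exact hs (hcd hy) hx ▸ hy
  exact absurd hdim (not_lt.2 h0)

end Groth.Agent.Semiab15
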