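import Groth.Agent.Lib.Semiab15.Isog
import Groth.Agent.Lib.BorelFix21.Stabilizer
import Groth.Agent.Lib.BorelLam21.Limit
import Groth.Agent.Lib.Chevalley25.Component
import Groth.Agent.Lib.MonoEndo20.Descent
import Groth.Agent.Lib.AVDegree22.MulRank
import Mathlib.RingTheory.AdjoinRoot

/-!
# Subgroups of semiabelian groups without torsion of a given prime order are finite
-/

set_option autoImplicit false
set_option maxSynthPendingDepth 3
set_option backward.isDefEq.respectTransparency false

universe u

open CategoryTheory CategoryTheory.Limits MonoidalCategory CartesianMonoidalCategory MonObj GrpObj AlgebraicGeometry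

noncomputable section

namespace Groth.Agent.Semiab15

variable {k : Type u} [Field k]

/-- No torsion of order `ℓ`, scheme theoretically. -/
def NoTor (ℓ : ℕ) (H : Over (Spec (CommRingCat.of k))) [GrpObj H] : Prop :=
  ∀ (Y : Over (Spec (CommRingCat.of k))) (h : Y ⟶ H), h ^ ℓ = 1 → h = 1

theorem noTor_sub {ℓ : ℕ} {H B : Over (Spec (CommRingCat.of k))} [GrpObj H] [GrpObj B] (hH : NoTor ℓ H) (b : B ⟶ H)
    [IsMonHom b] [Mono b] : NoTor ℓ B := fun Y h hh => by
  rw [← cancel_mono b, MonObj.one_comp]
  exact hH Y _ (by rw [← Isogeny14.hom_pow_comp b h, hh, MonObj.one_comp])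

/-- Without torsion the power is an automorphism. -/
theorem isIso_pow {ℓ : ℕ} {B : Over (Spec (CommRingCat.of k))} [GrpObj B] [IsCommMonObj B]
    [LocallyOfFiniteType B.hom] [QuasiCompact B.hom] (hB : NoTor ℓ B) : IsIso (𝟙 B ^ ℓ) := by
  haveI : IsSeparated B.hom := AbRigid.isSeparated_of_grpObj B
  haveI : LocallyOfFinitePresentation B.hom :=
    LocallyOfFinitePresentation.iff_locallyOfFiniteType.2 inferInstance
  haveI : Mono (𝟙 B ^ ℓ) := ⟨fun {W} x y h => by
    letI : CommGroup (W ⟶ B) := Hom.commGroup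
    rw [MonObj.comp_pow, MonObj.comp_pow, Category.comp_id, Category.comp_id] at h
    refine eq_of_mul_inv_eq_one (hB _ _ ?_)
    rw [mul_pow, inv_pow, h, mul_inv_cancel]⟩
  haveI := MonoEndo20.isIso_of_mono_endo B.hom (𝟙 B ^ ℓ).left (Over.w _)
  haveI : IsIso ((Over.forget _).map (𝟙 B ^ ℓ)) := ‹IsIso (𝟙 B ^ ℓ).left›
  exact isIso_of_reflects_iso _ (Over.forget _)

/-- A torus without torsion of some prime order is trivial. -/
theorem trivial_torus [IsAlgClosed k] {ℓ : ℕ} (hℓ : ℓ.Prime) {T : Over (Spec (CommRingCat.of k))} [GrpObj T]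
    (hT : Red.IsTorus T) (hN : NoTor ℓ T) : 𝟙 T = 1 := by
  obtain ⟨r, ⟨C⟩⟩ := TorPts21.exists_chars hT
  rcases Nat.eq_zero_or_pos r with h0 | hr
  · subst h0
    refine C.inj fun a => ?_
    obtain rfl : a = 1 := Subsingleton.elim _ _
    rw [map_one, map_one]
  exfalso
  let f : Polynomial k := Polynomial.X ^ ℓ - 1
  let R := AdjoinRoot f
  let ρ : R := AdjoinRoot.root f
  have hρ : ρ ^ ℓ = 1 := by
    have h : AdjoinRoot.mk f f = 0 := AdjoinRoot.mk_self
    simp only [f, map_sub, map_pow, AdjoinRoot.mk_X, map_one, sub_eq_zero] at h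
    exact h
  have hρ1 : ρ ≠ 1 := by
    intro h
    have hd : f ∣ Polynomial.X - 1 := AdjoinRoot.mk_eq_zero.1 (by simp [ρ, h] at *)
    have hne : (Polynomial.X - 1 : Polynomial k) ≠ 0 := by
      simpa using Polynomial.X_sub_C_ne_zero (1 : k)
    have := Polynomial.natDegree_le_of_dvd hd hne
    simp only [f, ← map_one Polynomial.C, Polynomial.natDegree_X_pow_sub_C, Polynomial.natDegree_X_sub_C] at this
    exact absurd hℓ.two_le (by omega)
  let u : Rˣ := Units.ofPowEqOne ρ ℓ hρ hℓ.ne_zero
  let W : Over (Spec (CommRingCat.of k)) := Over.mk (Spec.map (CommRingCat.ofHom (algebraMap k R)))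
  let e : R →* Γ(W.left, ⊤) := (Scheme.ΓSpecIso (CommRingCat.of R)).inv.hom.toMonoidHom
  let c : Multiplicative (Fin r → ℤ) →* Γ(W.left, ⊤) :=
    (e.comp (Units.coeHom R)).comp ((zpowersHom Rˣ u).comp (Pi.evalAddMonoidHom (fun _ : Fin r => ℤ) ⟨0, hr⟩).toMultiplicative)
  obtain ⟨x, hx⟩ := C.surj c
  have hch1 : ∀ a, C.ch (1 : W ⟶ T) a = 1 := fun a => by
    have hu : IsUnit (C.ch (1 : W ⟶ T) a) := by
      have : IsUnit a := Group.isUnit a
      exact this.map _
    have := C.mul (1 : W ⟶ T) 1 a
    rw [_root_.mul_one] at this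
    exact hu.mul_left_cancel (this.symm.trans (_root_.mul_one _).symm)
  have hpow : ∀ (n : ℕ) a, C.ch (x ^ n) a = C.ch x a ^ n := fun n a => by
    induction n with
    | zero => rw [pow_zero, pow_zero, hch1]
    | succ n ih => rw [pow_succ, pow_succ, C.mul, ih]
  have hx1 : x = 1 := hN W x (C.inj fun a => by
    rw [hpow, hch1, hx]
    show e ((u ^ ((Multiplicative.toAdd a) ⟨0, hr⟩) : Rˣ) : R) ^ ℓ = 1
    have hu : u ^ ℓ = 1 := Units.ext (by simpa [u] using hρ)
    rw [← map_pow, ← Units.val_pow_eq_pow_val, ← zpow_natCast, zpow_comm, zpow_natCast, hu, one_zpow, Units.val_one,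
      map_one])
  have h := congrArg (fun y => C.ch y (Multiplicative.ofAdd (Pi.single (⟨0, hr⟩ : Fin r) (1 : ℤ)))) hx1
  simp only [hx, hch1] at h
  apply hρ1
  have hinj : Function.Injective e := (Scheme.ΓSpecIso (CommRingCat.of R)).symm.commRingCatIsoToRingEquiv.injective
  refine hinj ?_
  rw [map_one, ← h]
  simp [c, u]

/-- An abelian variety without torsion of some prime order is trivial. -/
theorem trivial_av {ℓ : ℕ} (hℓ : ℓ.Prime) {A : Over (Spec (CommRingCat.of k))} [GrpObj A] [IsProper A.hom]
    [Smooth A.hom] [ConnectedSpace ↥A.left] (hN : NoTor ℓ A) : 𝟙 A = 1 := by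
  haveI := isCommMonObj_of_isProper A
  haveI := geometricallyIntegral_of_smooth A
  haveI : IsIntegral A.left := GeometricallyIntegral.isIntegral_of_subsingleton A.hom
  obtain ⟨x, hx, -⟩ := VarDim.exists_dim_eq A.hom
  set g := VarDim.sdim A.hom x
  have hg : topologicalKrullDim A.left = g := by rw [hx]
  haveI := isIso_pow hN
  haveI : IsIso (𝟙 A ^ ℓ).left := (inferInstance : IsIso ((Over.forget _).map (𝟙 A ^ ℓ)))
  have h := AVDegree22.finrank_pow A hg hℓ.pos x
  rw [Scheme.Hom.finrank_eq_one_of_isIso] at h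
  have hg0 : g = 0 := by
    by_contra hne
    have h2 : 1 < ℓ ^ (2 * g) := Nat.one_lt_pow (by omega) hℓ.one_lt
    exact h2.ne h
  haveI : Finite A.left := by
    have hmin : ∀ a : A.left, a = genericPoint A.left := fun a => by
      by_contra hne
      have h2 := VarDim.sdim_lt_of_specializes A.hom (x := genericPoint A.left) (y := a)
        ((genericPoint_spec A.left).specializes trivial) (Ne.symm hne)
      have h3 := VarDim.dim_eq_sdim_genericPoint A.hom
      rw [hg, hg0] at h3
      have : VarDim.sdim A.hom (genericPoint A.left) = 0 := by exact_mod_cast h3.symm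
      omega
    haveI : Subsingleton A.left := ⟨fun a b => by rw [hmin a, hmin b]⟩
    infer_instance
  haveI : LocallyQuasiFinite A.hom := LocallyQuasiFinite.of_finite_preimage_singleton A.hom fun y => Set.toFinite _
  haveI : IsFinite A.hom := DegRank.isFinite_of_finite A.hom
  exact trivial_of_finite_connected A

/-- A group all of whose smooth connected subgroups are trivial is finite. -/
theorem isFinite_of_subgroups [IsAlgClosed k] (G : Over (Spec (CommRingCat.of k))) [GrpObj G]
    [LocallyOfFiniteType G.hom] [QuasiCompact G.hom]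
    (h : ∀ (B : Over (Spec (CommRingCat.of k))) [GrpObj B] (b : B ⟶ G) [IsMonHom b] [IsClosedImmersion b.left]
      [Smooth B.hom] [ConnectedSpace ↥B.left], 𝟙 B = 1) : IsFinite G.hom := by
  haveI : IsSeparated G.hom := AbRigid.isSeparated_of_grpObj G
  obtain ⟨F, _, u, hu, huc, hus, hFr, hFs⟩ := BorelFix21.exists_reduced_subgroup G
  haveI := hu; haveI := huc; haveI := hus; haveI := hFs
  haveI : QuasiCompact F.hom := by rw [← Over.w u]; infer_instance
  haveI : LocallyOfFiniteType F.hom := inferInstance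
  obtain ⟨B, _, j, hj, hjo, hjc, hBs, hBq, hBn⟩ := Chevalley25.exists_neutral F
  haveI := hj; haveI := hjo; haveI := hjc; haveI := hBs; haveI := hBn
  haveI : IsClosedImmersion (j ≫ u).left := by rw [Over.comp_left]; infer_instance
  have hB := h B (j ≫ u)
  haveI hsub : Subsingleton B.left := by
    refine ⟨fun a b => ?_⟩
    have ha : ∀ a : B.left, a = η[B].left (IsLocalRing.closedPoint k) := fun a => by
      conv_lhs => rw [show a = (𝟙 B : B ⟶ B).left a from rfl, hB, Hom.one_def, AbRigid.left_comp_apply]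
      congr 1
      exact Subsingleton.elim (α := PrimeSpectrum k) _ _
    rw [ha a, ha b]
  have hopen : ∀ x : F.left, IsOpen ({x} : Set F.left) := fun x => by
    obtain ⟨t, y, hy⟩ := Chevalley25.exists_translate F j x
    haveI : IsOpenImmersion (j ≫ Chevalley25.tau t).left := by rw [Over.comp_left]; infer_instance
    convert (j ≫ Chevalley25.tau t).left.isOpenEmbedding.isOpen_range
    ext z
    constructor
    · rintro rfl; exact ⟨y, hy⟩
    · rintro ⟨w, rfl⟩; rw [Set.mem_singleton_iff, ← hy, Subsingleton.elim w y]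
  haveI : DiscreteTopology F.left := discreteTopology_iff_isOpen_singleton.2 hopen
  haveI : CompactSpace F.left := QuasiCompact.compactSpace_of_compactSpace F.hom
  haveI : Finite F.left := finite_of_compact_of_discrete
  haveI : Finite G.left := Finite.of_surjective _ u.left.surjective
  haveI : LocallyQuasiFinite G.hom := LocallyQuasiFinite.of_finite_preimage_singleton G.hom fun y => Set.toFinite _
  exact DegRank.isFinite_of_finite G.hom

/-- Over an algebraically closed field a subgroup without torsion of some prime order is finite. -/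
theorem isFinite_of_noTor [IsAlgClosed k] {G H : Over (Spec (CommRingCat.of k))} [GrpObj G] [GrpObj H]
    [LocallyOfFiniteType G.hom] [QuasiCompact G.hom] (hG : IsSA G) (j : H ⟶ G) [IsMonHom j]
    [IsClosedImmersion j.left] {ℓ : ℕ} (hℓ : ℓ.Prime) (hN : NoTor ℓ H) : IsFinite H.hom := by
  obtain ⟨T, _, i, A, _, q, hi, hic, hT, hq, hqs, hqf, hk, hAp, hAs, hAc⟩ := hG
  haveI := hi; haveI := hic; haveI := hq; haveI := hqs; haveI := hqf; haveI := hAp; haveI := hAs; haveI := hAc
  haveI := isCommMonObj_of_isProper A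
  haveI := TorusSlice15.isCommMonObj i q hk hT
  haveI : Mono j := Over.mono_of_mono_left j
  haveI := AbelGrp20.isCommMonObj_of_mono j
  haveI : LocallyOfFiniteType H.hom := by rw [← Over.w j]; infer_instance
  haveI : QuasiCompact H.hom := by rw [← Over.w j]; infer_instance
  haveI : Mono i := Over.mono_of_mono_left i
  obtain ⟨M, _, μ', hμ, hμc, hkM⟩ := CharTorus15.exists_kernel (j ≫ q)
  haveI := hμ; haveI := hμc
  haveI : LocallyOfFiniteType M.hom := by rw [← Over.w μ']; infer_instance
  haveI : QuasiCompact M.hom := by rw [← Over.w μ']; infer_instance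
  obtain ⟨m, hm⟩ := CharTorus15.exists_lift hk (μ' ≫ j) (by rw [Category.assoc, CharTorus15.comp_eq_one hkM])
  haveI : IsMonHom m := BorelFix21.isMonHom_of_comp i m (hm ▸ inferInstance)
  haveI : IsClosedImmersion (m.left ≫ i.left) := by rw [← Over.comp_left, hm, Over.comp_left]; infer_instance
  haveI : IsClosedImmersion m.left := IsClosedImmersion.of_comp m.left i.left
  haveI : Mono μ' := Over.mono_of_mono_left μ'
  haveI hMf : IsFinite M.hom := isFinite_of_subgroups M fun B _ b _ _ _ _ => by
    haveI : IsClosedImmersion (b ≫ m).left := by rw [Over.comp_left]; infer_instance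
    haveI : Mono b := Over.mono_of_mono_left b
    exact trivial_torus hℓ (BorelLam21.isTorus_of_closed hT (b ≫ m)) (noTor_sub hN (b ≫ μ'))
  refine isFinite_of_subgroups H fun B _ b _ _ _ _ => ?_
  haveI : Mono b := Over.mono_of_mono_left b
  haveI := AbelGrp20.isCommMonObj_of_mono b
  haveI : QuasiCompact B.hom := by rw [← Over.w b]; infer_instance
  obtain ⟨K, _, κ, I, _, p, ι', hκ, hκc, hp, hι, hIc, hIl, hIq, hpf, hps, -, hkp, hιc, hpι⟩ :=
    exists_image (b ≫ j ≫ q)
  haveI := hκ; haveI := hκc; haveI := hp; haveI := hpf; haveI := hps; haveI := hιc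
  haveI : IsFinite K.hom := by
    obtain ⟨l, hl⟩ := CharTorus15.exists_lift hkM (κ ≫ b) (by
      rw [Category.assoc, ← hpι, ← Category.assoc, CharTorus15.comp_eq_one hkp, MonObj.one_comp])
    haveI : IsClosedImmersion (l.left ≫ μ'.left) := by rw [← Over.comp_left, hl, Over.comp_left]; infer_instance
    haveI : IsClosedImmersion l.left := IsClosedImmersion.of_comp l.left μ'.left
    rw [← Over.w l]; infer_instance
  haveI : QuasiCompact p.left := qc_left p
  haveI := Groth.Agent.FpqcDesc.descendsAlong_isFinite.{u}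
  haveI : IsFinite p.left := AbRigid.of_kernel p κ hkp @IsFinite ‹_›
  haveI : IsProper B.hom := by
    rw [← Over.w p, ← Over.w ι']
    infer_instance
  exact trivial_av hℓ (noTor_sub hN b)

end Groth.Agent.Semiab15
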