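import Groth.Agent.Lib.Semiab15.Ext
import Groth.Agent.Lib.AbRigid.Maximal

/-!
# The largest semiabelian subgroup
-/

set_option autoImplicit false
set_option maxSynthPendingDepth 3
set_option backward.isDefEq.respectTransparency false

universe u

open CategoryTheory CategoryTheory.Limits MonoidalCategory CartesianMonoidalCategory MonObj GrpObj AlgebraicGeometry

noncomputable section

namespace Groth.Agent.Semiab15

variable {k : Type u} [Field k]

/-- Semiabelian groups are smooth and connected. -/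
theorem isSA_smooth_connected {S : Over (Spec (CommRingCat.of k))} [GrpObj S] [LocallyOfFiniteType S.hom]
    [QuasiCompact S.hom] (hS : IsSA S) : Smooth S.hom ∧ ConnectedSpace ↥S.left := by
  obtain ⟨T, _, i, A, _, q, hi, hic, hT, hq, hqs, hqf, hk, hAp, hAs, hAc⟩ := hS
  haveI := hi; haveI := hic; haveI := hq; haveI := hqs; haveI := hqf; haveI := hAp; haveI := hAs; haveI := hAc
  haveI : LocallyOfFiniteType T.hom := by rw [← Over.w i]; infer_instance
  exact TorusSlice15.smooth_connected i q hk hT

/-- A commutative algebraic group has a semiabelian subgroup modulo which there are no more. -/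
theorem exists_largest (G : Over (Spec (CommRingCat.of k))) [GrpObj G] [IsCommMonObj G] [LocallyOfFiniteType G.hom]
    [QuasiCompact G.hom] :
    ∃ (S : Over (Spec (CommRingCat.of k))) (_ : GrpObj S) (s : S ⟶ G), IsMonHom s ∧ IsClosedImmersion s.left ∧ IsSA S ∧
      (∀ (S' : Over (Spec (CommRingCat.of k))) [GrpObj S'] (s' : S' ⟶ G) [IsMonHom s'] [IsClosedImmersion s'.left],
        IsSA S' → ∃ g : S' ⟶ S, g ≫ s = s') ∧
      (∀ (Q : Over (Spec (CommRingCat.of k))) [GrpObj Q] [LocallyOfFiniteType Q.hom] [QuasiCompact Q.hom] (q : G ⟶ Q)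
        [IsMonHom q] [Surjective q.left] [Flat q.left], AlgGrp.IsKernel s q →
        ∀ (S'' : Over (Spec (CommRingCat.of k))) [GrpObj S''] (s'' : S'' ⟶ Q) [IsMonHom s'']
          [IsClosedImmersion s''.left], IsSA S'' → IsIso η[S'']) := by
  haveI : IsLocallyNoetherian G.left := LocallyOfFiniteType.isLocallyNoetherian G.hom
  let 𝒮 : Set (Set G.left) := {r | ∃ (S : Over (Spec (CommRingCat.of k))) (_ : GrpObj S) (s : S ⟶ G), IsMonHom s ∧
    IsClosedImmersion s.left ∧ IsSA S ∧ Set.range s.left = r}
  have hne : 𝒮.Nonempty := by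
    haveI : IsProper (𝟙_ (Over (Spec (CommRingCat.of k)))).hom := inferInstanceAs (IsProper (𝟙 (Spec (CommRingCat.of k))))
    haveI : Smooth (𝟙_ (Over (Spec (CommRingCat.of k)))).hom := inferInstanceAs (Smooth (𝟙 (Spec (CommRingCat.of k))))
    haveI : ConnectedSpace ↥(𝟙_ (Over (Spec (CommRingCat.of k)))).left :=
      inferInstanceAs (ConnectedSpace ↥(Spec (CommRingCat.of k)))
    haveI : IsMonHom η[G] := TorsorSch25.isMonHom_of_points η[G] fun W x y => by
      have h : ∀ z : W ⟶ 𝟙_ (Over (Spec (CommRingCat.of k))), z ≫ η[G] = 1 := fun z => by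
        rw [Hom.one_def, toUnit_unique z (toUnit W)]
      rw [h, h, h, _root_.mul_one]
    exact ⟨_, 𝟙_ _, inferInstance, η[G], inferInstance, AbelGrp20.isClosedImmersion_one G, isSA_of_isProper _, rfl⟩
  obtain ⟨r, ⟨S, gS, s, hs, hsc, hS, hrs⟩, hmax⟩ := AbRigid.exists_maximal_of_irreducible
    (η[G].left (IsLocalRing.closedPoint k)) 𝒮 hne
    (by rintro _ ⟨Z, _, i, -, hci, -, rfl⟩; exact i.left.isClosedEmbedding.isClosed_range)
    (by
      rintro _ ⟨Z, _, i, hi, hci, hZ, rfl⟩
      haveI := hci
      haveI : LocallyOfFiniteType Z.hom := by rw [← Over.w i]; infer_instance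
      haveI : QuasiCompact Z.hom := by rw [← Over.w i]; infer_instance
      obtain ⟨h1, h2⟩ := isSA_smooth_connected hZ
      haveI := h1; haveI := h2
      haveI := geometricallyIntegral_of_smooth Z
      haveI : IsIntegral Z.left := GeometricallyIntegral.isIntegral_of_subsingleton Z.hom
      rw [← Set.image_univ]
      exact (IrreducibleSpace.isIrreducible_univ _).image _ i.left.continuous.continuousOn)
    (by
      rintro _ ⟨Z, _, i, hi, -, -, rfl⟩
      exact ⟨η[Z].left (IsLocalRing.closedPoint k), by rw [← AbRigid.left_comp_apply, IsMonHom.one_hom]⟩)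
  haveI := hs; haveI := hsc
  have h3 : ∀ (Q : Over (Spec (CommRingCat.of k))) [GrpObj Q] [LocallyOfFiniteType Q.hom] [QuasiCompact Q.hom]
      (q : G ⟶ Q) [IsMonHom q] [Surjective q.left] [Flat q.left], AlgGrp.IsKernel s q →
      ∀ (S'' : Over (Spec (CommRingCat.of k))) [GrpObj S''] (s'' : S'' ⟶ Q) [IsMonHom s'']
        [IsClosedImmersion s''.left], IsSA S'' → IsIso η[S''] := by
    intro Q _ _ _ q _ hqs hqf hk S'' _ s'' _ _ hS''
    haveI : LocallyOfFiniteType q.left := AlgGrpBasic19.lft_left q
    haveI : IsLocallyNoetherian Q.left := LocallyOfFiniteType.isLocallyNoetherian Q.hom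
    haveI : IsCommMonObj Q := AbelGrp20.isCommMonObj_of_epi q
      ⟨hqs, hqf, LocallyOfFinitePresentation.iff_locallyOfFiniteType.2 inferInstance⟩
    haveI : LocallyOfFiniteType S''.hom := by rw [← Over.w s'']; infer_instance
    haveI : QuasiCompact S''.hom := by rw [← Over.w s'']; infer_instance
    obtain ⟨P, _, j', b', a', hj', hj'c, hb', ha', ha'c, hPc, hPl, hPq, ha'j, -, hb'f, hb's, hab'⟩ :=
      exists_preimage s q hk s''
    haveI := hj'; haveI := hj'c; haveI := hb'; haveI := ha'; haveI := ha'c; haveI := hPc; haveI := hPl; haveI := hPq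
    haveI := hb'f; haveI := hb's
    have hP : IsSA P := isSA_ext hS hS'' a' b' hab'
    obtain ⟨hPs, hPn⟩ := isSA_smooth_connected hP
    haveI := hPs; haveI := hPn
    haveI := geometricallyIntegral_of_smooth P
    haveI : IsIntegral P.left := GeometricallyIntegral.isIntegral_of_subsingleton P.hom
    have hle : r ⊆ Set.range j'.left := by
      rw [← hrs, ← ha'j]
      rintro _ ⟨x, rfl⟩
      exact ⟨a'.left x, (AbRigid.left_comp_apply a' j' x).symm⟩
    have hge : Set.range j'.left ⊆ r := hmax ⟨P, inferInstance, j', hj', hj'c, hP, rfl⟩ hle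
    haveI : Surjective a'.left := ⟨fun z => by
      obtain ⟨m, hm⟩ := hrs.ge (hge ⟨z, rfl⟩)
      refine ⟨m, j'.left.isClosedEmbedding.injective ?_⟩
      rw [← AbRigid.left_comp_apply, ha'j, hm]⟩
    haveI : IsIso a'.left := isIso_of_isClosedImmersion_of_surjective a'.left
    haveI : IsIso ((Over.forget _).map a') := ‹IsIso a'.left›
    haveI : IsIso a' := isIso_of_reflects_iso a' (Over.forget _)
    have h1 : b' = 1 := by
      rw [← cancel_epi a', CharTorus15.comp_eq_one hab', MonObj.comp_one]
    haveI : QuasiCompact b'.left := qc_left b'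
    haveI := MTExt29.epi_of_cover b'
    have h2 : 𝟙 S'' = 1 := by rw [← cancel_epi b', Category.comp_id, MonObj.comp_one, h1]
    exact ⟨toUnit S'', toUnit_unique _ _, by rw [h2, Hom.one_def]⟩
  refine ⟨S, gS, s, hs, hsc, hS, fun S' _ s' _ _ hS' => ?_, fun Q _ _ _ q _ _ _ => h3 Q q⟩
  obtain ⟨Q, _, q, hq, hQc, hQl, hQq, hqf, hqs, -, hk⟩ := exists_quot s
  haveI := hq; haveI := hQc; haveI := hQl; haveI := hQq; haveI := hqf; haveI := hqs
  haveI : LocallyOfFiniteType S'.hom := by rw [← Over.w s']; infer_instance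
  haveI : QuasiCompact S'.hom := by rw [← Over.w s']; infer_instance
  obtain ⟨I, _, m, p, hm, hmc, hp, -, hpm, hI⟩ := isSA_image hS' (s' ≫ q)
  haveI := hm; haveI := hmc
  haveI := h3 Q q hk I m hI
  refine CharTorus15.exists_lift hk s' ?_
  rw [← hpm]
  have e : 𝟙 I = 1 := by
    rw [Hom.one_def, ← cancel_epi η[I], Category.comp_id, ← Category.assoc,
      toUnit_unique (η[I] ≫ toUnit I) (𝟙 _), Category.id_comp]
  rw [← Category.comp_id p, e, MonObj.comp_one, MonObj.one_comp]

end Groth.Agent.Semiab15
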