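import Groth.Agent.Lib.Semiab15.Finite
import Groth.Agent.Lib.Semiab15.Main

/-!
# Subgroups and extensions of semiabelian groups
-/

set_option autoImplicit false
set_option maxSynthPendingDepth 3
set_option backward.isDefEq.respectTransparency false

universe u

open CategoryTheory CategoryTheory.Limits MonoidalCategory CartesianMonoidalCategory MonObj GrpObj AlgebraicGeometry
open scoped commutatorElement

noncomputable section

namespace Groth.Agent.Semiab15

variable {k : Type u} [Field k]

/-- A torus is semiabelian. -/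
theorem isSA_of_isTorus (T : Over (Spec (CommRingCat.of k))) [GrpObj T] (hT : Red.IsTorus T) : IsSA T := by
  haveI : IsMonHom (toUnit T) := TorsorSch25.isMonHom_of_points (toUnit T) fun W x y => toUnit_unique _ _
  haveI : IsSeparated T.hom := AbRigid.isSeparated_of_grpObj T
  obtain ⟨hTs, hTc⟩ := TorPts21.smooth_connected_of_isTorus hT
  haveI := hTs; haveI := hTc
  haveI : IsProper (𝟙_ (Over (Spec (CommRingCat.of k)))).hom := inferInstanceAs (IsProper (𝟙 (Spec (CommRingCat.of k))))
  haveI : Smooth (𝟙_ (Over (Spec (CommRingCat.of k)))).hom := inferInstanceAs (Smooth (𝟙 (Spec (CommRingCat.of k))))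
  haveI : ConnectedSpace ↥(𝟙_ (Over (Spec (CommRingCat.of k)))).left :=
    inferInstanceAs (ConnectedSpace ↥(Spec (CommRingCat.of k)))
  refine ⟨T, inferInstance, 𝟙 T, 𝟙_ _, inferInstance, toUnit T, inferInstance, ?_, hT, inferInstance, ?_, ?_, ?_,
    inferInstance, inferInstance, inferInstance⟩
  · exact inferInstanceAs (IsClosedImmersion (𝟙 T.left))
  · show Surjective T.hom
    exact ⟨fun z => ⟨η[T].left z, Subsingleton.elim (α := PrimeSpectrum k) _ _⟩⟩
  · show Flat T.hom
    infer_instance
  · show IsPullback (𝟙 T) (toUnit T) (toUnit T) η[𝟙_ (Over (Spec (CommRingCat.of k)))]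
    haveI : IsIso η[𝟙_ (Over (Spec (CommRingCat.of k)))] := ⟨toUnit _, toUnit_unique _ _, toUnit_unique _ _⟩
    exact IsPullback.of_horiz_isIso ⟨toUnit_unique _ _⟩

/-- A smooth connected extension of semiabelian groups is commutative. -/
theorem isCommMonObj_ext {S P R : Over (Spec (CommRingCat.of k))} [GrpObj S] [GrpObj P] [GrpObj R] [Smooth P.hom]
    [QuasiCompact P.hom] [ConnectedSpace ↥P.left] [IsCommMonObj R] [LocallyOfFiniteType S.hom] [QuasiCompact S.hom]
    (hS : IsSA S) (a : S ⟶ P) [IsMonHom a] [IsClosedImmersion a.left] (b : P ⟶ R) [IsMonHom b]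
    (hab : AlgGrp.IsKernel a b) : IsCommMonObj P := by
  haveI := geometricallyIntegral_of_smooth P
  haveI : IsSeparated P.hom := AbRigid.isSeparated_of_grpObj P
  haveI : Mono a := Over.mono_of_mono_left a
  let w : P ⊗ P ⟶ P := ⁅fst P P, snd P P⁆
  obtain ⟨F, hF⟩ := CharTorus15.exists_lift hab w (by
    show IsogTransfer19.push b _ _ = 1
    rw [map_commutatorElement, commutatorElement_eq_one_iff_mul_comm]
    exact mul_comm _ _)
  have h := Groth.Agent.S14595.result k P P S hS η[P] η[P] F
  have hsl : ∀ {W : Over (Spec (CommRingCat.of k))} (g : W ⟶ P ⊗ P),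
      (g ≫ fst P P = 1 ∨ g ≫ snd P P = 1) → g ≫ F = 1 := fun {W} g hg => by
    rw [← cancel_mono a, Category.assoc, hF, BorelFix21.comp_commutator, MonObj.one_comp]
    rcases hg with hg | hg
    · rw [hg, commutatorElement_one_left]
    · rw [hg, commutatorElement_one_right]
  rw [hsl (lift (𝟙 P) (toUnit P ≫ η[P])) (Or.inr (by rw [lift_snd, Hom.one_def])),
    hsl (lift (toUnit P ≫ η[P]) (𝟙 P)) (Or.inl (by rw [lift_fst, Hom.one_def])),
    hsl (lift η[P] η[P]) (Or.inl (by rw [lift_fst, one_eq_one]))] at h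
  simp only [MonObj.comp_one, inv_one, _root_.mul_one] at h
  have h1 : w = 1 := by rw [← hF, h, MonObj.one_comp]
  rw [show w = ⁅fst P P, snd P P⁆ from rfl, commutatorElement_eq_one_iff_mul_comm] at h1
  refine ⟨?_⟩
  rw [MonObj.mul_eq_mul, MonObj.comp_mul, braiding_hom_fst, braiding_hom_snd]
  exact h1.symm

/-- Over an algebraically closed field smooth connected closed subgroups of semiabelian groups are semiabelian. -/
theorem isSA_sub [IsAlgClosed k] {G B : Over (Spec (CommRingCat.of k))} [GrpObj G] [GrpObj B]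
    [LocallyOfFiniteType G.hom] [QuasiCompact G.hom] (hG : IsSA G) (b : B ⟶ G) [IsMonHom b]
    [IsClosedImmersion b.left] [Smooth B.hom] [ConnectedSpace ↥B.left] : IsSA B := by
  obtain ⟨T, _, i, A, _, q, hi, hic, hT, hq, hqs, hqf, hk, hAp, hAs, hAc⟩ := hG
  haveI := hi; haveI := hic; haveI := hq; haveI := hqs; haveI := hqf; haveI := hAp; haveI := hAs; haveI := hAc
  haveI := isCommMonObj_of_isProper A
  haveI := TorusSlice15.isCommMonObj i q hk hT
  haveI : Mono b := Over.mono_of_mono_left b
  haveI : Mono i := Over.mono_of_mono_left i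
  haveI := AbelGrp20.isCommMonObj_of_mono b
  haveI : QuasiCompact B.hom := by rw [← Over.w b]; infer_instance
  obtain ⟨M, _, μ', hμ, hμc, hkM⟩ := CharTorus15.exists_kernel (b ≫ q)
  haveI := hμ; haveI := hμc
  haveI : Mono μ' := Over.mono_of_mono_left μ'
  haveI := AbelGrp20.isCommMonObj_of_mono μ'
  haveI : LocallyOfFiniteType M.hom := by rw [← Over.w μ']; infer_instance
  haveI : QuasiCompact M.hom := by rw [← Over.w μ']; infer_instance
  obtain ⟨m, hm⟩ := CharTorus15.exists_lift hk (μ' ≫ b) (by rw [Category.assoc, CharTorus15.comp_eq_one hkM])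
  haveI : IsMonHom m := BorelFix21.isMonHom_of_comp i m (hm ▸ inferInstance)
  haveI : IsClosedImmersion (m.left ≫ i.left) := by rw [← Over.comp_left, hm, Over.comp_left]; infer_instance
  haveI : IsClosedImmersion m.left := IsClosedImmersion.of_comp m.left i.left
  obtain ⟨S, _, s, hs, hsc, hS, hmax, -⟩ := exists_largest M
  haveI := hs; haveI := hsc
  haveI : LocallyOfFiniteType S.hom := by rw [← Over.w s]; infer_instance
  haveI : QuasiCompact S.hom := by rw [← Over.w s]; infer_instance
  obtain ⟨hSs, hSn⟩ := isSA_smooth_connected hS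
  haveI := hSs; haveI := hSn
  haveI : IsClosedImmersion (s ≫ m).left := by rw [Over.comp_left]; infer_instance
  haveI : IsClosedImmersion (s ≫ μ').left := by rw [Over.comp_left]; infer_instance
  have hST : Red.IsTorus S := BorelLam21.isTorus_of_closed hT (s ≫ m)
  obtain ⟨Q, _, π, hπ, hQc, hQl, hQq, hπf, hπs, hπp, hkπ⟩ := exists_quot (s ≫ μ')
  haveI := hπ; haveI := hQc; haveI := hQl; haveI := hQq; haveI := hπf; haveI := hπs
  haveI : QuasiCompact π.left := qc_left π
  obtain ⟨f, hf, hπf'⟩ := CharTorus15.desc_hom (s ≫ μ') π hkπ (b ≫ q) (by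
    rw [Category.assoc, CharTorus15.comp_eq_one hkM, MonObj.comp_one])
  haveI := hf
  haveI : Smooth Q.hom := AlgSpDescent.smooth_of_fppf_comp π.left Q.hom hπf hπp hπs (by rw [Over.w]; infer_instance)
  haveI : ConnectedSpace Q.left := by
    haveI : PreconnectedSpace Q.left := π.left.surjective.denseRange.preconnectedSpace π.left.continuous
    exact { toNonempty := ⟨π.left (Classical.arbitrary B.left)⟩ }
  obtain ⟨K, _, κ, I, _, p, ι', hκ, hκc, hp, hι, hIc, hIl, hIq, hpf, hps, -, hkp, hιc, hpι⟩ := exists_image f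
  haveI := hκ; haveI := hκc; haveI := hp; haveI := hpf; haveI := hps; haveI := hιc
  haveI : Mono κ := Over.mono_of_mono_left κ
  haveI : LocallyOfFiniteType K.hom := by rw [← Over.w κ]; infer_instance
  haveI : QuasiCompact K.hom := by rw [← Over.w κ]; infer_instance
  have hκf : κ ≫ f = 1 := by rw [← hpι, ← Category.assoc, CharTorus15.comp_eq_one hkp, MonObj.one_comp]
  haveI : IsFinite K.hom := isFinite_of_subgroups K fun R _ r _ _ _ _ => by
    haveI : IsClosedImmersion (r ≫ κ).left := by rw [Over.comp_left]; infer_instance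
    haveI : QuasiCompact R.hom := by rw [← Over.w r]; infer_instance
    obtain ⟨P, _, j', b', a', hj', hj'c, hb', ha', ha'c, hPc, hPl, hPq, ha'j, hsq, hb'f, hb's, hab'⟩ :=
      exists_preimage (s ≫ μ') π hkπ (r ≫ κ)
    haveI := hj'; haveI := hj'c; haveI := hb'; haveI := ha'; haveI := ha'c; haveI := hPl; haveI := hPq
    haveI := hb'f; haveI := hb's
    obtain ⟨hPs, hPn⟩ := smooth_connected_ext a' b' hab'
    haveI := hPs; haveI := hPn
    obtain ⟨g, hg⟩ := CharTorus15.exists_lift hkM j' (by
      rw [← hπf', ← Category.assoc, hsq.w, Category.assoc, Category.assoc r, hκf, MonObj.comp_one, MonObj.comp_one])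
    haveI : IsMonHom g := BorelFix21.isMonHom_of_comp μ' g (hg ▸ inferInstance)
    haveI : IsClosedImmersion (g.left ≫ μ'.left) := by rw [← Over.comp_left, hg]; infer_instance
    haveI : IsClosedImmersion g.left := IsClosedImmersion.of_comp g.left μ'.left
    haveI : IsClosedImmersion (g ≫ m).left := by rw [Over.comp_left]; infer_instance
    obtain ⟨l, hl⟩ := hmax P g (isSA_of_isTorus P (BorelLam21.isTorus_of_closed hT (g ≫ m)))
    haveI : QuasiCompact b'.left := qc_left b'
    haveI := MTExt29.epi_of_cover b'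
    haveI : Mono (r ≫ κ) := Over.mono_of_mono_left (r ≫ κ)
    rw [← cancel_epi b', Category.comp_id, MonObj.comp_one, ← cancel_mono (r ≫ κ), MonObj.one_comp, ← hsq.w, ← hg,
      ← hl, Category.assoc, Category.assoc]
    have := CharTorus15.comp_eq_one hkπ
    rw [Category.assoc] at this
    rw [this, MonObj.comp_one]
  haveI : QuasiCompact p.left := qc_left p
  haveI := Groth.Agent.FpqcDesc.descendsAlong_isFinite.{u}
  haveI : IsFinite p.left := AbRigid.of_kernel p κ hkp @IsFinite ‹_›
  haveI : IsProper Q.hom := by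
    rw [← Over.w p, ← Over.w ι']
    infer_instance
  exact ⟨S, inferInstance, s ≫ μ', Q, inferInstance, π, inferInstance, inferInstance, hST, inferInstance,
    inferInstance, inferInstance, hkπ, inferInstance, inferInstance, inferInstance⟩

end Groth.Agent.Semiab15
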