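import Groth.Agent.Lib.Semiab15.Chev
import Groth.Agent.Lib.Semiab15.Apps
import Groth.Agent.Lib.AffGrp19.AntiAff
import Groth.Agent.Lib.AntiAff20.Smooth
import Groth.Agent.Lib.GrpDim20.Basic
import Groth.Agent.Lib.TopDimLib.Basic
import Groth.Agent.S3293
import Groth.Agent.S18070
import Groth.Agent.S19702

/-!
# Anti-affine groups: powers, and semiabelian structure in positive characteristic
-/

set_option autoImplicit false
set_option maxSynthPendingDepth 3
set_option backward.isDefEq.respectTransparency false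

universe u

open CategoryTheory CategoryTheory.Limits MonoidalCategory CartesianMonoidalCategory MonObj GrpObj AlgebraicGeometry

noncomputable section

namespace Groth.Agent.Semiab15

variable {k : Type u} [Field k]

/-- No non-constant global functions. -/
def AA (G : Over (Spec (CommRingCat.of k))) : Prop :=
  Function.Bijective ((Scheme.ΓSpecIso (CommRingCat.of k)).inv ≫ G.hom.appTop).hom

theorem aa_props {G : Over (Spec (CommRingCat.of k))} [GrpObj G] [LocallyOfFiniteType G.hom] [QuasiCompact G.hom]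
    (hG : AA G) : Smooth G.hom ∧ ConnectedSpace ↥G.left ∧ IsCommMonObj G :=
  ⟨AntiAff20.smooth_of_antiAffine G hG, S3293.result k G hG⟩

/-- A homomorphism from an anti-affine group to an affine one is trivial. -/
theorem hom_affine_eq_one {M W : Over (Spec (CommRingCat.of k))} [GrpObj M] [GrpObj W] [LocallyOfFiniteType M.hom]
    [QuasiCompact M.hom] [IsAffine W.left] (hM : AA M) (f : M ⟶ W) [IsMonHom f] : f = 1 := by
  haveI : IsSeparated M.hom := AbRigid.isSeparated_of_grpObj M
  obtain ⟨w, hw⟩ := AffGrp19.exists_const hM f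
  have h1 : η[M] ≫ f = η[W] := IsMonHom.one_hom f
  rw [hw, ← Category.assoc, toUnit_unique (η[M] ≫ toUnit M) (𝟙 _), Category.id_comp] at h1
  rw [hw, h1, Hom.one_def]

/-- A quotient of an anti-affine group is anti-affine. -/
theorem aa_quot {G₁ G G₂ : Over (Spec (CommRingCat.of k))} [GrpObj G₁] [GrpObj G] [GrpObj G₂]
    [LocallyOfFiniteType G₁.hom] [QuasiCompact G₁.hom] [ConnectedSpace ↥G₁.left]
    [LocallyOfFiniteType G.hom] [QuasiCompact G.hom] [LocallyOfFiniteType G₂.hom] [QuasiCompact G₂.hom]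
    (i : G₁ ⟶ G) [IsMonHom i] [IsClosedImmersion i.left] (q : G ⟶ G₂) [IsMonHom q] [Surjective q.left] [Flat q.left]
    (hex : AlgGrp.IsKernel i q) (hG : AA G) : AA G₂ := by
  obtain ⟨-, hc, -⟩ := aa_props hG
  haveI := hc
  haveI : ConnectedSpace G₂.left := by
    haveI : PreconnectedSpace G₂.left := q.left.surjective.denseRange.preconnectedSpace q.left.continuous
    exact { toNonempty := ⟨q.left (Classical.arbitrary G.left)⟩ }
  exact (S18070.result k G₁ G G₂ i q hex).1 hG

/-- An anti-affine group killed by a positive integer is trivial. -/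
theorem trivial_aa {C : Over (Spec (CommRingCat.of k))} [GrpObj C] [LocallyOfFiniteType C.hom] [QuasiCompact C.hom]
    (hC : AA C) {n : ℕ} (hn : 0 < n) (h : 𝟙 C ^ n = 1) : 𝟙 C = 1 := by
  let K := AlgebraicClosure k
  let φ : Spec (CommRingCat.of K) ⟶ Spec (CommRingCat.of k) := Spec.map (CommRingCat.ofHom (algebraMap k K))
  haveI : LocallyOfFiniteType (Red.bc φ C).hom := inferInstanceAs (LocallyOfFiniteType (pullback.snd C.hom φ))
  haveI : QuasiCompact (Red.bc φ C).hom := inferInstanceAs (QuasiCompact (pullback.snd C.hom φ))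
  have hK : AA (Red.bc φ C) := (S19702.result k K C).1 hC
  obtain ⟨hs, hc, hcm⟩ := aa_props hK
  haveI := hs; haveI := hc; haveI := hcm
  obtain ⟨B, _, b, A, _, q, hb, hbc, hBs, hBn, hBa, hq, hqf, hqs, hk, hAp, hAs, hAc⟩ := exists_chevalley (Red.bc φ C)
  haveI := hb; haveI := hbc; haveI : Mono b := Over.mono_of_mono_left b
  haveI := hBa; haveI := hq; haveI := hqf; haveI := hqs; haveI := hAp; haveI := hAs
  haveI := hAc
  have hKn : 𝟙 (Red.bc φ C) ^ n = 1 := by
    have h2 := map_pow_bc φ (𝟙 C) n
    rw [h, Functor.map_one, CategoryTheory.Functor.map_id] at h2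
    exact h2.symm
  haveI : QuasiCompact q.left := qc_left q
  haveI := MTExt29.epi_of_cover q
  have hA1 : 𝟙 A = 1 := trivial_of_pow (isSA_of_isProper A) hn (by
    rw [← cancel_epi q, MonObj.comp_one, ← pow_map, hKn, MonObj.one_comp])
  have hq1 : q = 1 := by rw [← Category.comp_id q, hA1, MonObj.comp_one]
  obtain ⟨l, hl⟩ := CharTorus15.exists_lift hk (𝟙 (Red.bc φ C)) (by rw [Category.id_comp, hq1])
  haveI : IsMonHom l := BorelFix21.isMonHom_of_comp b l (hl ▸ inferInstance)
  have hl1 : l = 1 := hom_affine_eq_one hK l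
  apply TorusSlice15.bc_map_injective (K := K)
  rw [CategoryTheory.Functor.map_id, Functor.map_one]
  show 𝟙 (Red.bc φ C) = 1
  rw [← hl, hl1, MonObj.one_comp]

/-- Positive powers on anti-affine groups are finite, flat and surjective. -/
theorem pow_aa {G : Over (Spec (CommRingCat.of k))} [GrpObj G] [LocallyOfFiniteType G.hom] [QuasiCompact G.hom]
    (hG : AA G) {n : ℕ} (hn : 0 < n) :
    IsFinite (𝟙 G ^ n).left ∧ Flat (𝟙 G ^ n).left ∧ Surjective (𝟙 G ^ n).left := by
  obtain ⟨hs, hc, hcm⟩ := aa_props hG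
  haveI := hs; haveI := hc; haveI := hcm
  haveI := isMonHom_pow (𝟙 G) n
  obtain ⟨N, _, κ, I, _, p, m, hκ, hκc, hp, hm, hIc, hIl, hIq, hpf, hps, -, hkp, hmc, hpm⟩ := exists_image (𝟙 G ^ n)
  haveI := hκ; haveI := hκc; haveI := hp; haveI := hm; haveI := hIc; haveI := hIl; haveI := hIq; haveI := hmc
  haveI := hpf; haveI := hps
  haveI : ConnectedSpace I.left := by
    haveI : PreconnectedSpace I.left := p.left.surjective.denseRange.preconnectedSpace p.left.continuous
    exact { toNonempty := ⟨p.left (Classical.arbitrary G.left)⟩ }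
  obtain ⟨C, _, c, hcm', hCc, hCl, hCq, hcf, hcs, -, hkc⟩ := exists_quot m
  haveI := hcm'; haveI := hCl; haveI := hCq; haveI := hcf; haveI := hcs
  haveI : QuasiCompact c.left := qc_left c
  haveI := MTExt29.epi_of_cover c
  have hC1 : 𝟙 C = 1 := trivial_aa (aa_quot m c hkc hG) hn (by
    rw [← cancel_epi c, ← pow_map, ← hpm, Category.assoc, CharTorus15.comp_eq_one hkc, MonObj.comp_one,
      MonObj.comp_one])
  have hc1 : c = 1 := by rw [← Category.comp_id c, hC1, MonObj.comp_one]
  obtain ⟨l, hl⟩ := CharTorus15.exists_lift hkc (𝟙 G) (by rw [Category.id_comp, hc1])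
  haveI : Mono m := Over.mono_of_mono_left m
  haveI : IsIso m := ⟨l, (cancel_mono m).1 (by rw [Category.assoc, hl, Category.comp_id, Category.id_comp]), hl⟩
  haveI : IsIso m.left := (inferInstance : IsIso ((Over.forget _).map m))
  have hfl : Flat (𝟙 G ^ n).left := by rw [← hpm, Over.comp_left]; infer_instance
  have hsu : Surjective (𝟙 G ^ n).left := by rw [← hpm, Over.comp_left]; infer_instance
  haveI := hfl; haveI := hsu
  refine ⟨?_, hfl, hsu⟩
  obtain ⟨Z, _, ν, hν, hνc, hkν⟩ := CharTorus15.exists_kernel (𝟙 G ^ n)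
  haveI := hν; haveI := hνc
  haveI : QuasiCompact (𝟙 G ^ n).left := qc_left _
  haveI := Groth.Agent.FpqcDesc.descendsAlong_isFinite.{u}
  haveI : LocallyOfFiniteType Z.hom := by rw [← Over.w ν]; infer_instance
  haveI : QuasiCompact Z.hom := by rw [← Over.w ν]; infer_instance
  obtain ⟨-, hdim⟩ := GrpDim20.range_closed_and_dim G G Z (𝟙 G ^ n) ν hkν
  have hr : topologicalKrullDim (Set.range (𝟙 G ^ n).left.base) = topologicalKrullDim G.left := by
    rw [show Set.range (𝟙 G ^ n).left.base = Set.univ from (𝟙 G ^ n).left.surjective.range_eq]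
    exact IsHomeomorph.topologicalKrullDim_eq _ (Homeomorph.Set.univ G.left).isHomeomorph
  rw [hr] at hdim
  haveI : Nonempty Z.left := ⟨η[Z].left (IsLocalRing.closedPoint k)⟩
  obtain ⟨x, hx, -⟩ := VarDim.exists_dim_eq G.hom
  obtain ⟨z, hz, -⟩ := VarDim.exists_dim_eq Z.hom
  rw [hx, hz] at hdim
  norm_cast at hdim
  have hz0 : topologicalKrullDim Z.left = 0 := by
    rw [hz]
    norm_cast
    omega
  haveI : TopologicalSpace.NoetherianSpace Z.left := VarDim.noetherianSpace_of_finiteType Z.hom
  haveI : Finite Z.left := (TopDimLib.dim_eq_zero_iff.1 hz0).1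
  haveI : IsSeparated Z.hom := AbRigid.isSeparated_of_grpObj Z
  haveI : LocallyQuasiFinite Z.hom := LocallyQuasiFinite.of_finite_preimage_singleton Z.hom fun y => Set.toFinite _
  exact AbRigid.of_kernel (𝟙 G ^ n) ν hkν @IsFinite (DegRank.isFinite_of_finite Z.hom)

/-- In positive characteristic anti-affine groups are semiabelian. -/
theorem isSA_of_aa (p : ℕ) [Fact p.Prime] [CharP k p] {G : Over (Spec (CommRingCat.of k))} [GrpObj G]
    [LocallyOfFiniteType G.hom] [QuasiCompact G.hom] (hG : AA G) : IsSA G := by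
  obtain ⟨n, I, _, m, π, hn, hm, hmc, hπ, hπm, hI⟩ :=
    haveI := (aa_props hG).2.2
    exists_pow_image p G
  haveI := hm; haveI := hmc
  obtain ⟨-, -, hsu⟩ := pow_aa hG hn
  haveI : Smooth G.hom := (aa_props hG).1
  haveI : Surjective m.left := by
    haveI : Surjective (π.left ≫ m.left) := by rw [← Over.comp_left, hπm]; exact hsu
    exact Surjective.of_comp π.left m.left
  haveI : IsReduced G.left := OrbitTop19.isReduced_of_smooth G.hom
  haveI : IsIso m.left := isIso_of_isClosedImmersion_of_surjective m.left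
  haveI : IsIso ((Over.forget _).map m) := ‹IsIso m.left›
  haveI : IsIso m := isIso_of_reflects_iso m (Over.forget _)
  haveI : IsMonHom (inv m) := by rw [← asIso_inv]; infer_instance
  exact isSA_of_iso hI (inv m)

end Groth.Agent.Semiab15
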