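import Groth.Agent.Lib.AbelGrp20.Main
import Groth.Agent.Lib.CharTorus15.Basic
import Groth.Agent.Lib.TorusSlice15.Semiab
import Groth.Agent.Lib.AlgSpDescent.FppfComp
import Groth.Agent.Lib.MTRigid29.QuotTorus
import Groth.Agent.Lib.MTRigid29.SubgrpFlatScheme
import Groth.Agent.Lib.MTRigid29.NormalCentral
import Groth.Agent.Lib.MTRigid29.HomLocus
import Groth.Agent.Lib.TorusIsog19.Basic

/-!
# Commutative algebraic groups: quotients, images, images of tori
-/

set_option autoImplicit false
set_option maxSynthPendingDepth 3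
set_option backward.isDefEq.respectTransparency false

universe u

open CategoryTheory CategoryTheory.Limits MonoidalCategory CartesianMonoidalCategory MonObj GrpObj AlgebraicGeometry

noncomputable section

namespace Groth.Agent.Semiab15

variable {k : Type u} [Field k]

/-- The existence of a presentation as an extension of an abelian variety by a torus. -/
def IsSA (G : Over (Spec (CommRingCat.of k))) [GrpObj G] : Prop :=
  ∃ (T : Over (Spec (CommRingCat.of k))) (_ : GrpObj T) (i : T ⟶ G) (A : Over (Spec (CommRingCat.of k))) (_ : GrpObj A) (q : G ⟶ A),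
        IsMonHom i ∧ IsClosedImmersion i.left ∧ Red.IsTorus T ∧ IsMonHom q ∧ Surjective q.left ∧ Flat q.left ∧
        AlgGrp.IsKernel i q ∧ IsProper A.hom ∧ Smooth A.hom ∧ ConnectedSpace ↥A.left

/-- The object of the category of commutative algebraic groups. -/
abbrev alg (G : Over (Spec (CommRingCat.of k))) [GrpObj G] [IsCommMonObj G] [LocallyOfFiniteType G.hom]
    [QuasiCompact G.hom] : AbelGrp20.Alg k False :=
  ⟨CommGrp.mk G, ⟨‹_›, ‹_›, False.elim⟩⟩

/-- Multiplication by a product of homomorphisms into a commutative group. -/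
theorem isMonHom_mul {G H : Over (Spec (CommRingCat.of k))} [GrpObj G] [GrpObj H] [IsCommMonObj H] (f g : G ⟶ H)
    [IsMonHom f] [IsMonHom g] : IsMonHom (f * g) :=
  TorPts21.isMonHom_mul f g

/-- Inverse of a homomorphism into a commutative group. -/
theorem isMonHom_inv {G H : Over (Spec (CommRingCat.of k))} [GrpObj G] [GrpObj H] [IsCommMonObj H] (f : G ⟶ H)
    [IsMonHom f] : IsMonHom f⁻¹ := by
  refine ⟨?_, ?_⟩
  · rw [GrpObj.comp_inv, IsMonHom.one_hom, one_eq_one, inv_one]
  · rw [GrpObj.comp_inv, IsMonHom.mul_hom]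
    letI : CommGroup (G ⊗ G ⟶ H) := Hom.commGroup
    have e : (f⁻¹ ⊗ₘ f⁻¹) ≫ μ[H] = (fst G G ≫ f⁻¹) * (snd G G ≫ f⁻¹) := by
      rw [Hom.mul_def, lift_fst_comp_snd_comp]
    rw [e, GrpObj.comp_inv, GrpObj.comp_inv, ← _root_.mul_inv]
    congr 1

/-- Powers of a homomorphism into a commutative group. -/
theorem isMonHom_pow {G H : Over (Spec (CommRingCat.of k))} [GrpObj G] [GrpObj H] [IsCommMonObj H] (f : G ⟶ H)
    [IsMonHom f] (n : ℕ) : IsMonHom (f ^ n) := by
  haveI := TorusIsog19.isMonHom_pow H n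
  rw [← TorusIsog19.comp_id_pow]
  infer_instance

/-- A surjection between quasi-compact schemes over a field which are separated is quasi-compact. -/
theorem qc_left {X Y : Over (Spec (CommRingCat.of k))} [GrpObj Y] [QuasiCompact X.hom] (f : X ⟶ Y) :
    QuasiCompact f.left := by
  haveI : IsSeparated Y.hom := AbRigid.isSeparated_of_grpObj Y
  haveI : QuasiCompact (f.left ≫ Y.hom) := by rw [Over.w]; infer_instance
  exact QuasiCompact.of_comp f.left Y.hom

/-- The quotient of a commutative algebraic group by a closed subgroup. -/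
theorem exists_quot {G N : Over (Spec (CommRingCat.of k))} [GrpObj G] [IsCommMonObj G] [GrpObj N]
    [LocallyOfFiniteType G.hom] [QuasiCompact G.hom] (i : N ⟶ G) [IsMonHom i] [IsClosedImmersion i.left] :
    ∃ (Q : Over (Spec (CommRingCat.of k))) (_ : GrpObj Q) (q : G ⟶ Q), IsMonHom q ∧ IsCommMonObj Q ∧
      LocallyOfFiniteType Q.hom ∧ QuasiCompact Q.hom ∧ Flat q.left ∧ Surjective q.left ∧
      LocallyOfFinitePresentation q.left ∧ AlgGrp.IsKernel i q := by
  haveI : Mono i := Over.mono_of_mono_left i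
  haveI := AbelGrp20.isCommMonObj_of_mono i
  haveI : LocallyOfFiniteType N.hom := by rw [← Over.w i]; infer_instance
  haveI : QuasiCompact N.hom := by rw [← Over.w i]; infer_instance
  obtain ⟨Q, q, hq, hk, -⟩ := AbelGrp20.exists_quot (A := alg G) (K := alg N)
    (AbelGrp20.mkHom (A := alg N) (B := alg G) i) ‹IsClosedImmersion i.left›
  exact ⟨Q.obj.X, inferInstance, AbelGrp20.uhom q, inferInstance, inferInstance, Q.property.1, Q.property.2.1,
    hq.flat, hq.surj, hq.lfp, hk⟩

/-- A homomorphism with trivial kernel into an algebraic group is a closed immersion. -/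
theorem isClosedImmersion_of_trivial_kernel {X Y : Over (Spec (CommRingCat.of k))} [GrpObj X] [GrpObj Y]
    [LocallyOfFiniteType X.hom] [QuasiCompact X.hom] [LocallyOfFiniteType Y.hom] (f : X ⟶ Y) [IsMonHom f]
    [Mono f] : IsClosedImmersion f.left := by
  haveI := qc_left f
  exact Groth.Agent.S3036.result k X Y f

/-- The image of a homomorphism of commutative algebraic groups. -/
theorem exists_image {P G : Over (Spec (CommRingCat.of k))} [GrpObj P] [IsCommMonObj P] [GrpObj G]
    [IsCommMonObj G] [LocallyOfFiniteType P.hom] [QuasiCompact P.hom] [LocallyOfFiniteType G.hom]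
    [QuasiCompact G.hom] (f : P ⟶ G) [IsMonHom f] :
    ∃ (K : Over (Spec (CommRingCat.of k))) (_ : GrpObj K) (j : K ⟶ P) (I : Over (Spec (CommRingCat.of k)))
      (_ : GrpObj I) (p : P ⟶ I) (m : I ⟶ G), IsMonHom j ∧ IsClosedImmersion j.left ∧ IsMonHom p ∧ IsMonHom m ∧
      IsCommMonObj I ∧ LocallyOfFiniteType I.hom ∧ QuasiCompact I.hom ∧
      Flat p.left ∧ Surjective p.left ∧ LocallyOfFinitePresentation p.left ∧
      AlgGrp.IsKernel j p ∧ IsClosedImmersion m.left ∧ p ≫ m = f := by
  let f' : alg P ⟶ alg G := AbelGrp20.mkHom (A := alg P) (B := alg G) f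
  obtain ⟨K, i, hi, hk⟩ := AbelGrp20.exists_kernel f'
  obtain ⟨I, p, hp, hkp, hpb⟩ := AbelGrp20.exists_quot i hi
  obtain ⟨m, hm⟩ := AbelGrp20.exists_desc_quot hp hpb f' (AbelGrp20.kernel_comp hk)
  have hm' : AbelGrp20.uhom p ≫ AbelGrp20.uhom m = f := by
    rw [← AbelGrp20.uhom_comp, hm]
    rfl
  exact ⟨K.obj.X, inferInstance, AbelGrp20.uhom i, I.obj.X, inferInstance, AbelGrp20.uhom p, AbelGrp20.uhom m,
    inferInstance, hi, inferInstance, inferInstance, inferInstance, I.property.1, I.property.2.1, hp.flat, hp.surj,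
    hp.lfp, hkp, AbelGrp20.isClosedImmersion_image hk hp hpb m hm, hm'⟩

/-- Tori are locally of finite type and quasi-compact. -/
theorem torus_props {T : Over (Spec (CommRingCat.of k))} [GrpObj T] (hT : Red.IsTorus T) :
    LocallyOfFiniteType T.hom ∧ QuasiCompact T.hom ∧ IsAffineHom T.hom ∧ IsCommMonObj T := by
  haveI := (TorPts21.smooth_connected_of_isTorus hT).1
  have hM := MTRigid29.isMultTypeFT_of_torus hT
  haveI := MTRigid29.isAffineHom_of_isMultTypeFT hM
  refine ⟨inferInstance, inferInstance, inferInstance, ⟨?_⟩⟩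
  have e : (β_ T T).hom ≫ μ[T] = snd T T * fst T T := by
    rw [Hom.mul_def]
    congr 1
  rw [e, MTRigid29.commute_of_isMultTypeFT hM (snd T T) (fst T T), MonObj.mul_eq_mul]

/-- A quotient of a torus is a torus. -/
theorem isTorus_of_quot {T K Q : Over (Spec (CommRingCat.of k))} [GrpObj T] [GrpObj K] [GrpObj Q]
    (hT : Red.IsTorus T) (i : K ⟶ T) [IsMonHom i] [IsClosedImmersion i.left] (q : T ⟶ Q) [IsMonHom q]
    [Flat q.left] [Surjective q.left] [LocallyOfFinitePresentation q.left] (hk : AlgGrp.IsKernel i q) :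
    Red.IsTorus Q := by
  haveI : Mono i := Over.mono_of_mono_left i
  obtain ⟨hl, hqc, -, -⟩ := torus_props hT
  haveI := hl
  haveI : LocallyOfFiniteType K.hom := by rw [← Over.w i]; infer_instance
  have hK : SGA3x.IsMultTypeFT K := MTRigid29.isMultTypeFT_of_closedSubgroup K T
    (MTRigid29.isMultTypeFT_of_torus hT) i inferInstance (QuotField20.flat_hom K)
    (LocallyOfFinitePresentation.iff_locallyOfFiniteType.2 inferInstance)
  refine MTRigid29.isTorus_quotient hT i hK q ⟨inferInstance, inferInstance, inferInstance, ?_⟩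
  have h := AbRigid.isPullback_kernelPair q i hk
  have e : (T ◁ i) ≫ μ[T] = fst T K * (snd T K ≫ i) := by
    rw [Hom.mul_def]
    congr 1
  rw [e]
  exact h

/-- The image of a torus is a torus. -/
theorem exists_image_torus {T G : Over (Spec (CommRingCat.of k))} [GrpObj T] [GrpObj G] [IsCommMonObj G]
    [LocallyOfFiniteType G.hom] [QuasiCompact G.hom] (hT : Red.IsTorus T) (f : T ⟶ G) [IsMonHom f] :
    ∃ (σ : Over (Spec (CommRingCat.of k))) (_ : GrpObj σ) (s : σ ⟶ G) (p : T ⟶ σ), IsMonHom s ∧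
      IsClosedImmersion s.left ∧ Red.IsTorus σ ∧ IsMonHom p ∧ Surjective p.left ∧ p ≫ s = f := by
  obtain ⟨hl, hqc, -, hc⟩ := torus_props hT
  haveI := hl
  haveI := hqc
  haveI := hc
  obtain ⟨K, _, j, I, _, p, m, hj, hjc, hp, hm, -, -, -, hpf, hps, hpl, hk, hmc, hpm⟩ := exists_image f
  haveI := hj; haveI := hjc; haveI := hp; haveI := hpf; haveI := hps; haveI := hpl
  exact ⟨I, inferInstance, m, p, hm, hmc, isTorus_of_quot hT j p hk, hp, hps, hpm⟩

end Groth.Agent.Semiab15
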