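import Groth.Agent.Lib.Semiab15.Main
import Groth.Agent.Lib.Isogeny14.Kernel

/-!
# Multiplication by integers on semiabelian groups
-/

set_option autoImplicit false
set_option linter.style.haveILetI false
set_option maxSynthPendingDepth 3
set_option backward.isDefEq.respectTransparency false
set_option backward.isDefEq.respectTransparency.types false

universe u

open CategoryTheory CategoryTheory.Limits MonoidalCategory CartesianMonoidalCategory MonObj GrpObj AlgebraicGeometry
open Groth.Agent.DiagGL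

noncomputable section

namespace Groth.Agent.Semiab15

variable {k : Type u} [Field k]

/-- Multiplication on an abelian variety is finite, flat and surjective. -/
theorem pow_av (A : Over (Spec (CommRingCat.of k))) [GrpObj A] [IsProper A.hom] [Smooth A.hom]
    [ConnectedSpace ↥A.left] {n : ℕ} (hn : 0 < n) :
    IsFinite (𝟙 A ^ n).left ∧ Flat (𝟙 A ^ n).left ∧ Surjective (𝟙 A ^ n).left := by
  haveI := AbRigid.geometricallyReduced_of_smooth A.hom
  haveI := AbRigid.geometricallyIrreducible_of_connected A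
  haveI := CubeField.geometricallyConnected_of_irreducible A.hom
  haveI : LocallyOfFinitePresentation A.hom :=
    LocallyOfFinitePresentation.iff_locallyOfFiniteType.2 inferInstance
  exact Isogeny14.isFinite_flat_surjective_pow A n hn

/-- An identity equal to one through an epimorphic power. -/
theorem id_eq_one_of_pow {X : Over (Spec (CommRingCat.of k))} [GrpObj X] {n : ℕ} [Epi (𝟙 X ^ n)]
    (h : 𝟙 X ^ n = 1) : 𝟙 X = 1 := by
  rw [← cancel_epi (𝟙 X ^ n), Category.comp_id, MonObj.comp_one, h]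

/-- Semiabelian groups killed by a positive integer are trivial. -/
theorem trivial_of_pow {S : Over (Spec (CommRingCat.of k))} [GrpObj S] [LocallyOfFiniteType S.hom]
    [QuasiCompact S.hom] (hS : IsSA S) {n : ℕ} (hn : 0 < n) (h : 𝟙 S ^ n = 1) : 𝟙 S = 1 := by
  obtain ⟨T, _, i, A, _, q, hi, hic, hT, hq, hqs, hqf, hk, hAp, hAs, hAc⟩ := hS
  haveI := hi; haveI := hic; haveI := hq; haveI := hqs; haveI := hqf; haveI := hAp; haveI := hAs; haveI := hAc
  haveI : QuasiCompact q.left := qc_left q
  haveI : IsSeparated T.hom := AbRigid.isSeparated_of_grpObj T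
  obtain ⟨hl, hqc, -, hc⟩ := torus_props hT
  haveI := hl; haveI := hqc; haveI := hc
  haveI : Mono i := Over.mono_of_mono_left i
  haveI := MTExt29.epi_of_cover q
  have hT1 : 𝟙 T = 1 := by
    obtain ⟨h1, h2⟩ := TorusIsog19.flat_surjective_pow hT hn
    haveI := h1; haveI := h2
    haveI : QuasiCompact (𝟙 T ^ n).left := qc_left _
    haveI := MTExt29.epi_of_cover (𝟙 T ^ n)
    refine id_eq_one_of_pow (n := n) ((cancel_mono i).1 ?_)
    rw [MonObj.one_comp, Isogeny14.hom_pow_comp i (𝟙 T), Category.id_comp]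
    calc i ^ n = i ≫ (𝟙 S ^ n) := by rw [MonObj.comp_pow, Category.comp_id]
      _ = 1 := by rw [h, MonObj.comp_one]
  have hA1 : 𝟙 A = 1 := by
    obtain ⟨-, h1, h2⟩ := pow_av A hn
    haveI := h1; haveI := h2
    haveI : QuasiCompact (𝟙 A ^ n).left := qc_left _
    haveI := MTExt29.epi_of_cover (𝟙 A ^ n)
    refine id_eq_one_of_pow (n := n) ((cancel_epi q).1 ?_)
    rw [MonObj.comp_pow, Category.comp_id, MonObj.comp_one]
    calc q ^ n = (𝟙 S ^ n) ≫ q := by rw [Isogeny14.hom_pow_comp q (𝟙 S), Category.id_comp]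
      _ = 1 := by rw [h, MonObj.one_comp]
  obtain ⟨c, hc'⟩ := CharTorus15.exists_lift hk (𝟙 S) (by rw [Category.id_comp, ← Category.comp_id q, hA1, MonObj.comp_one])
  rw [← hc', ← Category.id_comp i, hT1, MonObj.one_comp, MonObj.comp_one]

/-- A trivial group has invertible unit. -/
theorem isIso_one_of_id {S : Over (Spec (CommRingCat.of k))} [GrpObj S] (h : 𝟙 S = 1) : IsIso η[S] :=
  ⟨toUnit S, toUnit_unique _ _, by rw [h, Hom.one_def]⟩

/-- Powers on semiabelian groups are flat and surjective. -/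
theorem flat_surjective_pow {S : Over (Spec (CommRingCat.of k))} [GrpObj S] [IsCommMonObj S]
    [LocallyOfFiniteType S.hom] [QuasiCompact S.hom] (hS : IsSA S) {n : ℕ} (hn : 0 < n) :
    Flat (𝟙 S ^ n).left ∧ Surjective (𝟙 S ^ n).left := by
  obtain ⟨T, _, i, A, _, q, hi, hic, hT, hq, hqs, hqf, hk, hAp, hAs, hAc⟩ := hS
  haveI := hi; haveI := hic; haveI := hq; haveI := hqs; haveI := hqf; haveI := hAp; haveI := hAs; haveI := hAc
  haveI : QuasiCompact q.left := qc_left q
  haveI : IsSeparated T.hom := AbRigid.isSeparated_of_grpObj T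
  obtain ⟨hl, hqc, -, hc⟩ := torus_props hT
  haveI := hl; haveI := hqc; haveI := hc
  haveI := isMonHom_pow (𝟙 S) n
  obtain ⟨K, _, κ, I, _, p, m, hκ, hκc, hp, hm, hIc, hIl, hIq, hpf, hps, -, -, hmc, hpm⟩ := exists_image (𝟙 S ^ n)
  haveI := hp; haveI := hm; haveI := hIc; haveI := hIl; haveI := hIq; haveI := hmc
  obtain ⟨C, _, c, hcm, hCc, hCl, hCq, hcf, hcs, -, hkc⟩ := exists_quot m
  haveI := hcm; haveI := hCc; haveI := hCl; haveI := hCq; haveI := hcf; haveI := hcs
  have hnc : c ^ n = 1 := by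
    calc c ^ n = (𝟙 S ^ n) ≫ c := by rw [Isogeny14.hom_pow_comp c (𝟙 S), Category.id_comp]
      _ = 1 := by rw [← hpm, Category.assoc, CharTorus15.comp_eq_one hkc, MonObj.comp_one]
  have hic' : i ≫ c = 1 := by
    obtain ⟨h1, h2⟩ := TorusIsog19.flat_surjective_pow hT hn
    haveI := h1; haveI := h2
    haveI : QuasiCompact (𝟙 T ^ n).left := qc_left _
    haveI := MTExt29.epi_of_cover (𝟙 T ^ n)
    rw [← cancel_epi (𝟙 T ^ n), MonObj.comp_one, Isogeny14.hom_pow_comp (i ≫ c) (𝟙 T), Category.id_comp,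
      ← MonObj.comp_pow, hnc, MonObj.comp_one]
  obtain ⟨e, he, hqe⟩ := CharTorus15.desc_hom i q hk c hic'
  haveI := he
  have hc1 : c = 1 := by
    obtain ⟨-, h1, h2⟩ := pow_av A hn
    haveI := h1; haveI := h2
    haveI : QuasiCompact (𝟙 A ^ n).left := qc_left _
    haveI := MTExt29.epi_of_cover (𝟙 A ^ n)
    haveI := MTExt29.epi_of_cover q
    have he1 : e = 1 := by
      rw [← cancel_epi (𝟙 A ^ n), MonObj.comp_one, Isogeny14.hom_pow_comp e (𝟙 A), Category.id_comp, ← cancel_epi q,
        MonObj.comp_pow, hqe, MonObj.comp_one, hnc]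
    rw [← hqe, he1, MonObj.comp_one]
  obtain ⟨l, hl'⟩ := CharTorus15.exists_lift hkc (𝟙 S) (by rw [Category.id_comp, hc1])
  haveI : Mono m := Over.mono_of_mono_left m
  haveI : IsIso m := ⟨l, (cancel_mono m).1 (by rw [Category.assoc, hl', Category.comp_id, Category.id_comp]), hl'⟩
  haveI : IsIso m.left := (inferInstance : IsIso ((Over.forget _).map m))
  haveI := hpf; haveI := hps
  rw [← hpm, Over.comp_left]
  exact ⟨inferInstance, inferInstance⟩

/-- Semiabelian groups have finitely many torsion points of given order. -/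
theorem finite_torsion {S : Over (Spec (CommRingCat.of k))} [GrpObj S] [LocallyOfFiniteType S.hom]
    [QuasiCompact S.hom] (hS : IsSA S) {n : ℕ} (hn : 0 < n) (K : Type u) [Field K] [Algebra k K] [IsAlgClosed K] :
    {x : TorusIsog19.geo k K ⟶ S | x ^ n = 1}.Finite := by
  obtain ⟨T, _, i, A, _, q, hi, hic, hT, hq, hqs, hqf, hk, hAp, hAs, hAc⟩ := hS
  haveI := hi; haveI := hic; haveI := hq; haveI := hAp; haveI := hAs; haveI := hAc
  haveI := isCommMonObj_of_isProper A
  haveI := TorusSlice15.isCommMonObj i q hk hT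
  letI : CommGroup (TorusIsog19.geo k K ⟶ S) := Hom.commGroup
  obtain ⟨hf, -, -⟩ := pow_av A hn
  haveI := hf
  haveI := isMonHom_pow (𝟙 A) n
  obtain ⟨N, _, ν, hν, hνc, hkν⟩ := CharTorus15.exists_kernel (𝟙 A ^ n)
  haveI : IsFinite N.hom := AbRigid.kernel_of (𝟙 A ^ n) ν hkν @IsFinite hf
  haveI := TorusIsog19.finite_pts_of_isFinite (k := k) K (X := N)
  have hA : {a : TorusIsog19.geo k K ⟶ A | a ^ n = 1}.Finite := by
    refine (Set.finite_range (fun x : TorusIsog19.geo k K ⟶ N => x ≫ ν)).subset fun a (ha : a ^ n = 1) => ?_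
    exact CharTorus15.exists_lift hkν a (by rw [MonObj.comp_pow, Category.comp_id, ha])
  have hTn := TorusIsog19.finite_torsion K hT hn
  refine Set.Finite.of_finite_fibers (fun x => x ≫ q) ?_ ?_
  · refine hA.subset ?_
    rintro _ ⟨x, hx, rfl⟩
    show (x ≫ q) ^ n = 1
    rw [← Isogeny14.hom_pow_comp q x, show x ^ n = 1 from hx, MonObj.one_comp]
  · rintro _ ⟨x₀, hx₀, rfl⟩
    refine (hTn.image (fun t => (t ≫ i) * x₀)).subset ?_
    rintro x ⟨hx, hxq⟩
    obtain ⟨t, ht⟩ := CharTorus15.exists_lift hk (x * x₀⁻¹) (by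
      rw [MonObj.mul_comp, GrpObj.inv_comp, show x ≫ q = x₀ ≫ q from hxq, mul_inv_cancel])
    refine ⟨t, ?_, by show (t ≫ i) * x₀ = x; rw [ht, inv_mul_cancel_right]⟩
    haveI : Mono i := Over.mono_of_mono_left i
    show t ^ n = 1
    rw [← cancel_mono i, Isogeny14.hom_pow_comp i t, ht, MonObj.one_comp, mul_pow, inv_pow,
      show x ^ n = 1 from hx, show x₀ ^ n = 1 from hx₀, inv_one, _root_.mul_one]

/-- A subgroup killed by a positive integer of a semiabelian group is finite. -/
theorem isFinite_of_pow {S H : Over (Spec (CommRingCat.of k))} [GrpObj S] [LocallyOfFiniteType S.hom]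
    [QuasiCompact S.hom] (hS : IsSA S) (j : H ⟶ S) [IsClosedImmersion j.left] {n : ℕ} (hn : 0 < n)
    (h : j ^ n = 1) : IsFinite H.hom := by
  haveI : IsSeparated S.hom := AbRigid.isSeparated_of_grpObj S
  haveI : LocallyOfFiniteType H.hom := by rw [← Over.w j]; infer_instance
  haveI : IsSeparated H.hom := by rw [← Over.w j]; infer_instance
  haveI : Mono j := Over.mono_of_mono_left j
  haveI := (finite_torsion hS hn (AlgebraicClosure k)).to_subtype
  exact TorusIsog19.finite_space_of_finite_pts (AlgebraicClosure k) (Finite.of_injective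
    (fun x => (⟨x ≫ j, by show (x ≫ j) ^ n = 1; rw [← MonObj.comp_pow, h, MonObj.comp_one]⟩ :
      {x : TorusIsog19.geo k (AlgebraicClosure k) ⟶ S | x ^ n = 1}))
    fun x y e => (cancel_mono j).1 (congrArg Subtype.val e))

end Groth.Agent.Semiab15
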