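import Groth.Agent.Lib.Semiab15.Div
import Groth.Agent.Lib.Semiab15.Descent
import Groth.Agent.Lib.CharTorus15.Main
import Groth.Agent.Lib.Chevalley25.Component
import Groth.Agent.Lib.Chevalley25.ClosureSubgroup
import Groth.Agent.Lib.TorPts21.UnipBorel
import Groth.Agent.Lib.TorPts21.UnipPart
import Groth.Agent.Lib.Weight4.DegRank
import Groth.Agent.S11397

/-!
# Exponents of commutative algebraic groups without semiabelian subgroups
-/

set_option autoImplicit false
set_option linter.style.haveILetI false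
set_option maxSynthPendingDepth 3
set_option backward.isDefEq.respectTransparency false
set_option backward.isDefEq.respectTransparency.types false

universe u

open CategoryTheory CategoryTheory.Limits MonoidalCategory CartesianMonoidalCategory MonObj GrpObj AlgebraicGeometry
open Groth.Agent.DiagGL

noncomputable section

namespace Groth.Agent.Semiab15

variable {k : Type u} [Field k]

/-- No nontrivial semiabelian closed subgroup. -/
def NoSA (G : Over (Spec (CommRingCat.of k))) [GrpObj G] : Prop :=
  ∀ (S : Over (Spec (CommRingCat.of k))) [GrpObj S] (s : S ⟶ G) [IsMonHom s] [IsClosedImmersion s.left],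
    IsSA S → IsIso η[S]

/-- Killed by a positive integer. -/
def HasExp (G : Over (Spec (CommRingCat.of k))) [GrpObj G] : Prop :=
  ∃ n : ℕ, 0 < n ∧ (𝟙 G) ^ n = 1

theorem id_eq_one_of_isIso {S : Over (Spec (CommRingCat.of k))} [GrpObj S] (h : IsIso η[S]) : 𝟙 S = 1 := by
  rw [Hom.one_def, ← cancel_epi η[S], Category.comp_id, ← Category.assoc,
    toUnit_unique (η[S] ≫ toUnit S) (𝟙 _), Category.id_comp]

theorem pow_map {G H : Over (Spec (CommRingCat.of k))} [GrpObj G] [GrpObj H] (f : G ⟶ H) [IsMonHom f] (n : ℕ) :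
    (𝟙 G ^ n) ≫ f = f ≫ (𝟙 H ^ n) := by
  rw [Isogeny14.hom_pow_comp f (𝟙 G), Category.id_comp, MonObj.comp_pow, Category.comp_id]

/-- Finite commutative groups have exponents. -/
theorem hasExp_of_isFinite (G : Over (Spec (CommRingCat.of k))) [GrpObj G] [IsCommMonObj G] [IsFinite G.hom] :
    HasExp G := by
  haveI : LocallyOfFinitePresentation G.hom := LocallyOfFinitePresentation.iff_locallyOfFiniteType.2 inferInstance
  let n := G.hom.finrank (IsLocalRing.closedPoint k)
  refine ⟨n, ?_, ?_⟩
  · haveI : Nonempty G.left := ⟨η[G].left (IsLocalRing.closedPoint k)⟩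
    haveI : Finite G.left := by
      have h : G.hom ⁻¹' {IsLocalRing.closedPoint k} = Set.univ :=
        Set.eq_univ_of_forall fun x => Subsingleton.elim (α := Spec (CommRingCat.of k)) _ _
      exact Set.finite_univ_iff.mp (h ▸ G.hom.finite_preimage_singleton _)
    exact lt_of_lt_of_le Nat.card_pos (DegRank.card_le_finrank G.hom)
  · haveI := QuotField20.flat_hom G
    exact S7782.result G n (fun s => congrArg G.hom.finrank (Subsingleton.elim (α := Spec (CommRingCat.of k)) _ _)) _
      (𝟙 G)

/-- Exponents pass to extensions. -/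
theorem hasExp_ext {N G Q : Over (Spec (CommRingCat.of k))} [GrpObj N] [GrpObj G] [GrpObj Q] (i : N ⟶ G) [IsMonHom i]
    (q : G ⟶ Q) [IsMonHom q] (hk : AlgGrp.IsKernel i q) (hN : HasExp N) (hQ : HasExp Q) : HasExp G := by
  obtain ⟨a, ha, ha'⟩ := hN
  obtain ⟨b, hb, hb'⟩ := hQ
  refine ⟨b * a, Nat.mul_pos hb ha, ?_⟩
  obtain ⟨c, hc⟩ := CharTorus15.exists_lift hk (𝟙 G ^ b) (by rw [pow_map, hb', MonObj.comp_one])
  rw [pow_mul, ← hc, ← Isogeny14.hom_pow_comp i c, show c ^ a = c ≫ (𝟙 N ^ a) by
    rw [MonObj.comp_pow, Category.comp_id], ha', MonObj.comp_one, MonObj.one_comp]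

/-- Closed subgroups of groups without semiabelian subgroups. -/
theorem noSA_sub {G H : Over (Spec (CommRingCat.of k))} [GrpObj G] [GrpObj H] (hG : NoSA G) (j : H ⟶ G) [IsMonHom j]
    [IsClosedImmersion j.left] : NoSA H := by
  intro S _ s _ _ hS
  haveI : IsClosedImmersion (s ≫ j).left := by rw [Over.comp_left]; infer_instance
  exact hG S (s ≫ j) hS

/-- Quotients by subgroups with exponents create no semiabelian subgroups. -/
theorem noSA_quot {N G Q : Over (Spec (CommRingCat.of k))} [GrpObj N] [GrpObj G] [GrpObj Q] [IsCommMonObj G]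
    [IsCommMonObj Q] [LocallyOfFiniteType G.hom] [QuasiCompact G.hom] [LocallyOfFiniteType Q.hom]
    [QuasiCompact Q.hom] (i : N ⟶ G) [IsMonHom i] [IsClosedImmersion i.left] (q : G ⟶ Q) [IsMonHom q] [Flat q.left]
    [Surjective q.left] (hk : AlgGrp.IsKernel i q) (hN : HasExp N) (hG : NoSA G) : NoSA Q := by
  intro R _ r _ _ hR
  obtain ⟨n, hn, hn'⟩ := hN
  haveI : LocallyOfFiniteType R.hom := by rw [← Over.w r]; infer_instance
  haveI : QuasiCompact R.hom := by rw [← Over.w r]; infer_instance
  obtain ⟨P, _, j', b', a', hj', hj'c, hb', ha', -, hPc, -, hPq, -, -, hb'f, hb's, hab'⟩ := exists_preimage i q hk r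
  haveI := hPq; haveI := hj'; haveI := hj'c; haveI := hb'; haveI := ha'; haveI := hPc; haveI := hb'f; haveI := hb's
  haveI : QuasiCompact b'.left := qc_left b'
  haveI := isMonHom_pow (𝟙 P) n
  obtain ⟨d, hd, hbd⟩ := CharTorus15.desc_hom a' b' hab' ((𝟙 P ^ n) ≫ j') (by
    rw [← Category.assoc, ← pow_map, hn', MonObj.one_comp, MonObj.one_comp])
  haveI := hd
  obtain ⟨I, _, m, p, hm, hmc, hp, -, hpm, hI⟩ := isSA_image hR d
  haveI := hm; haveI := hmc
  have hI1 := id_eq_one_of_isIso (hG I m hI)
  have hd1 : d = 1 := by rw [← hpm, ← Category.comp_id p, hI1, MonObj.comp_one, MonObj.one_comp]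
  haveI := MTExt29.epi_of_cover b'
  haveI : Mono j' := Over.mono_of_mono_left j'
  refine isIso_one_of_id (trivial_of_pow hR hn ?_)
  have h0 : 𝟙 P ^ n = 1 := by
    rw [← cancel_mono j', ← hbd, hd1, MonObj.comp_one, MonObj.one_comp]
  rw [← cancel_epi b', MonObj.comp_one, ← pow_map, h0, MonObj.one_comp]

section Closed

open MatGrp21 TorPts21

attribute [local instance] InvRing21.gamAlg BorelFix21.ptsTop

variable [IsAlgClosed k]

/-- Unipotent groups in positive characteristic have exponents. -/
theorem hasExp_of_hasNoSubtorus {p : ℕ} [Fact p.Prime] [CharP k p] (U : Over (Spec (CommRingCat.of k))) [GrpObj U]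
    [IsCommMonObj U] [IsAffine U.left] [Smooth U.hom] [ConnectedSpace ↥U.left] (hU : Red.HasNoSubtorus k U) :
    HasExp U := by
  haveI : IsClosedImmersion (𝟙 U : U ⟶ U).left := inferInstanceAs (IsClosedImmersion (𝟙 U.left))
  obtain ⟨n, r, hr, hrc, hu⟩ := exists_upper_embedding (𝟙 U) (isSolvableGrp_of_hasNoSubtorus U hU)
  haveI := hr
  haveI := hrc
  have hu' : (mtx r).range ≤ upper := by
    rintro _ ⟨x, rfl⟩
    exact hu ⟨x, by rw [mtx_comp (𝟙 U) r, Category.comp_id]⟩
  have hlay := range_le_lay_of_hasNoSubtorus r hu' hU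
  have hp : p.Prime := Fact.out
  refine ⟨p ^ n, pow_pos hp.pos n, ?_⟩
  haveI := isMonHom_pow (𝟙 U) (p ^ n)
  refine hom_eq_one_of_pts _ fun x => mtxFn_injective r ?_
  rw [MonObj.comp_pow, Category.comp_id, ← mtx_apply, ← mtx_apply, map_pow, map_one]
  have h : IsUnip (mtx r x) := isUnip_of_mem_lay (hlay ⟨x, rfl⟩)
  apply Units.ext
  rcases Nat.eq_zero_or_pos n with h0 | hn
  · subst h0
    exact Subsingleton.elim _ _
  haveI : Nonempty (Fin n) := ⟨⟨0, hn⟩⟩
  haveI : CharP (Matrix (Fin n) (Fin n) k) p := inferInstance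
  have h2 : (((mtx r x : GL (Fin n) k) : Matrix (Fin n) (Fin n) k) - 1) ^ (p ^ n) = 0 :=
    pow_eq_zero_of_le (Nat.lt_pow_self hp.one_lt).le h
  rw [sub_pow_char_pow_of_commute (p := p) (h := Commute.one_right _), one_pow, sub_eq_zero] at h2
  simpa using h2

/-- Over an algebraically closed field of positive characteristic, no semiabelian subgroups gives an exponent. -/
theorem hasExp_of_noSA {p : ℕ} [Fact p.Prime] [CharP k p] (G : Over (Spec (CommRingCat.of k))) [GrpObj G]
    [IsCommMonObj G] [LocallyOfFiniteType G.hom] [QuasiCompact G.hom] (hG : NoSA G) : HasExp G := by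
  haveI : IsLocallyNoetherian G.left := LocallyOfFiniteType.isLocallyNoetherian G.hom
  let 𝒮 : Set (Set G.left) := {r | ∃ (H : Over (Spec (CommRingCat.of k))) (_ : GrpObj H) (h : H ⟶ G), IsMonHom h ∧
    IsClosedImmersion h.left ∧ Smooth H.hom ∧ ConnectedSpace ↥H.left ∧ HasExp H ∧ Set.range h.left = r}
  have hne : 𝒮.Nonempty := by
    haveI : Smooth (𝟙_ (Over (Spec (CommRingCat.of k)))).hom := inferInstanceAs (Smooth (𝟙 (Spec (CommRingCat.of k))))
    haveI : ConnectedSpace ↥(𝟙_ (Over (Spec (CommRingCat.of k)))).left :=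
      inferInstanceAs (ConnectedSpace ↥(Spec (CommRingCat.of k)))
    haveI : IsMonHom η[G] := TorsorSch25.isMonHom_of_points η[G] fun W x y => by
      have h : ∀ z : W ⟶ 𝟙_ (Over (Spec (CommRingCat.of k))), z ≫ η[G] = 1 := fun z => by
        rw [Hom.one_def, toUnit_unique z (toUnit W)]
      rw [h, h, h, _root_.mul_one]
    exact ⟨_, 𝟙_ _, inferInstance, η[G], inferInstance, AbelGrp20.isClosedImmersion_one G, inferInstance,
      inferInstance, ⟨1, one_pos, toUnit_unique _ _⟩, rfl⟩
  obtain ⟨r₀, ⟨H, gH, h, hh, hhc, hHs, hHn, hHe, hr₀⟩, hmax⟩ := AbRigid.exists_maximal_of_irreducible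
    (η[G].left (IsLocalRing.closedPoint k)) 𝒮 hne
    (by rintro _ ⟨Z, _, i, -, hci, -, -, -, rfl⟩; exact i.left.isClosedEmbedding.isClosed_range)
    (by
      rintro _ ⟨Z, _, i, hi, hci, h1, h2, -, rfl⟩
      haveI := h1; haveI := h2; haveI := hci
      haveI : LocallyOfFiniteType Z.hom := inferInstance
      haveI := geometricallyIntegral_of_smooth Z
      haveI : IsIntegral Z.left := GeometricallyIntegral.isIntegral_of_subsingleton Z.hom
      rw [← Set.image_univ]
      exact (IrreducibleSpace.isIrreducible_univ _).image _ i.left.continuous.continuousOn)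
    (by
      rintro _ ⟨Z, _, i, hi, -, -, -, -, rfl⟩
      exact ⟨η[Z].left (IsLocalRing.closedPoint k), by rw [← AbRigid.left_comp_apply, IsMonHom.one_hom]⟩)
  haveI := hh; haveI := hhc; haveI := hHs; haveI := hHn
  obtain ⟨Q, _, q, hq, hQc, hQl, hQq, hqf, hqs, -, hk⟩ := exists_quot h
  haveI := hq; haveI := hQc; haveI := hQl; haveI := hQq; haveI := hqf; haveI := hqs
  have hQ : NoSA Q := noSA_quot h q hk hHe hG
  -- a smooth connected subgroup of the quotient with an exponent is trivial
  have hsub : ∀ (A : Over (Spec (CommRingCat.of k))) [GrpObj A] (a : A ⟶ Q) [IsMonHom a] [IsClosedImmersion a.left],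
      Smooth A.hom → ConnectedSpace ↥A.left → HasExp A → 𝟙 A = 1 := by
    intro A _ a _ _ hAs hAn hAe
    haveI := hAs; haveI := hAn
    obtain ⟨P, _, j', b', a', hj', hj'c, hb', ha', ha'c, hPc, hPl, hPq, ha'j, -, hb'f, hb's, hab'⟩ :=
      exists_preimage h q hk a
    haveI := hj'; haveI := hj'c; haveI := hb'; haveI := ha'; haveI := ha'c; haveI := hPl; haveI := hPq
    haveI := hb'f; haveI := hb's
    obtain ⟨hPs, hPn⟩ := smooth_connected_ext a' b' hab'
    haveI := hPs; haveI := hPn
    haveI := geometricallyIntegral_of_smooth P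
    haveI : IsIntegral P.left := GeometricallyIntegral.isIntegral_of_subsingleton P.hom
    have hle : r₀ ⊆ Set.range j'.left := by
      rw [← hr₀, ← ha'j]
      rintro _ ⟨x, rfl⟩
      exact ⟨a'.left x, (AbRigid.left_comp_apply a' j' x).symm⟩
    have hge : Set.range j'.left ⊆ r₀ :=
      hmax ⟨P, inferInstance, j', hj', hj'c, hPs, hPn, hasExp_ext a' b' hab' hHe hAe, rfl⟩ hle
    haveI : Surjective a'.left := ⟨fun z => by
      obtain ⟨m, hm⟩ := hr₀.ge (hge ⟨z, rfl⟩)
      refine ⟨m, j'.left.isClosedEmbedding.injective ?_⟩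
      rw [← AbRigid.left_comp_apply, ha'j, hm]⟩
    haveI : IsIso a'.left := isIso_of_isClosedImmersion_of_surjective a'.left
    haveI : IsIso ((Over.forget _).map a') := ‹IsIso a'.left›
    haveI : IsIso a' := isIso_of_reflects_iso a' (Over.forget _)
    have h1 : b' = 1 := by
      rw [← cancel_epi a', CharTorus15.comp_eq_one hab', MonObj.comp_one]
    haveI : QuasiCompact b'.left := qc_left b'
    haveI := MTExt29.epi_of_cover b'
    rw [← cancel_epi b', Category.comp_id, MonObj.comp_one, h1]
  -- the reduced neutral component of the quotient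
  obtain ⟨R, _, ρ, hρ, hρc, hρs, -, hRs⟩ := BorelFix21.exists_reduced_subgroup Q
  haveI := hρ; haveI := hρc; haveI := hρs; haveI := hRs
  haveI : QuasiCompact R.hom := by rw [← Over.w ρ]; infer_instance
  obtain ⟨B, _, j, hj, hjo, hjc, hBs, hBq, hBn⟩ := Chevalley25.exists_neutral (G := R)
  haveI := hj; haveI := hjo; haveI := hjc; haveI := hBs; haveI := hBq; haveI := hBn
  haveI : IsClosedImmersion (j ≫ ρ).left := by rw [Over.comp_left]; infer_instance
  haveI : Mono (j ≫ ρ) := Over.mono_of_mono_left _
  haveI := AbelGrp20.isCommMonObj_of_mono (j ≫ ρ)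
  have hB : NoSA B := noSA_sub hQ (j ≫ ρ)
  have hB1 : 𝟙 B = 1 := by
    by_contra hne
    by_cases hp : IsProper B.hom
    · exact hne (id_eq_one_of_isIso (hB B (𝟙 B) (haveI := hp; isSA_of_isProper B)))
    · obtain ⟨A, _, a, ha, hac, hAs, hAa, hdim⟩ := Groth.Agent.S11397.result k B hp
      haveI := ha; haveI := hac; haveI := hAs; haveI := hAa
      haveI : QuasiCompact A.hom := by rw [← Over.w a]; infer_instance
      obtain ⟨A₀, _, j₀, hj₀, hj₀o, hj₀c, hA₀s, hA₀q, hA₀n⟩ := Chevalley25.exists_neutral (G := A)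
      haveI := hj₀; haveI := hj₀o; haveI := hj₀c; haveI := hA₀s; haveI := hA₀q; haveI := hA₀n
      haveI : IsAffine A₀.left := isAffine_of_isAffineHom j₀.left
      haveI : IsClosedImmersion (j₀ ≫ a).left := by rw [Over.comp_left]; infer_instance
      haveI : IsClosedImmersion ((j₀ ≫ a) ≫ j ≫ ρ).left := by rw [Over.comp_left]; infer_instance
      haveI : Mono (j₀ ≫ a) := Over.mono_of_mono_left _
      haveI := AbelGrp20.isCommMonObj_of_mono (j₀ ≫ a)
      have hA₀ : NoSA A₀ := noSA_sub hB (j₀ ≫ a)
      have hU : Red.HasNoSubtorus k A₀ := by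
        intro T _ t _ _ hT
        haveI := TorPts21.isClosedImmersion_of_torus hT t
        obtain ⟨hTl, hTq, -, hTc⟩ := torus_props hT
        haveI := hTl; haveI := hTq; haveI := hTc
        have hSA : IsSA T := by
          haveI : IsProper (𝟙_ (Over (Spec (CommRingCat.of k)))).hom :=
            inferInstanceAs (IsProper (𝟙 (Spec (CommRingCat.of k))))
          haveI : Smooth (𝟙_ (Over (Spec (CommRingCat.of k)))).hom :=
            inferInstanceAs (Smooth (𝟙 (Spec (CommRingCat.of k))))
          haveI : ConnectedSpace ↥(𝟙_ (Over (Spec (CommRingCat.of k)))).left :=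
            inferInstanceAs (ConnectedSpace ↥(Spec (CommRingCat.of k)))
          haveI : IsMonHom (toUnit T) := TorsorSch25.isMonHom_of_points _ fun X u v => toUnit_unique _ _
          refine ⟨T, inferInstance, 𝟙 T, 𝟙_ _, inferInstance, toUnit T, inferInstance,
            inferInstanceAs (IsClosedImmersion (𝟙 T.left)), hT, inferInstance, ⟨fun z => ⟨η[T].left z, ?_⟩⟩,
            QuotField20.flat_hom T, ?_, inferInstance, inferInstance, inferInstance⟩
          · exact Subsingleton.elim (α := PrimeSpectrum k) _ _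
          · show IsPullback (𝟙 T) (toUnit T) (toUnit T) η[𝟙_ _]
            rw [toUnit_unique η[𝟙_ (Over (Spec (CommRingCat.of k)))] (𝟙 _)]
            exact IsPullback.of_horiz_isIso ⟨toUnit_unique _ _⟩
        haveI := hA₀ T t hSA
        haveI : IsIso η[T].left := (inferInstance : IsIso ((Over.forget _).map η[T]))
        show IsIso T.hom
        haveI : IsIso (η[T].left ≫ T.hom) := by
          rw [Over.w η[T]]; exact (inferInstance : IsIso (𝟙 (Spec (CommRingCat.of k))))
        exact IsIso.of_isIso_comp_left η[T].left T.hom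
      have h1 : 𝟙 A₀ = 1 :=
        hsub A₀ ((j₀ ≫ a) ≫ j ≫ ρ) hA₀s hA₀n (hasExp_of_hasNoSubtorus (p := p) A₀ hU)
      -- the affine subgroup is finite, a contradiction
      have hfin : IsFinite A.hom := by
        refine (CharTorus15.finite_of_isOpen_one ?_).2
        have e : Set.range j₀.left = {η[A].left (IsLocalRing.closedPoint k)} := by
          refine Set.Subset.antisymm ?_ (by
            rintro _ rfl
            exact ⟨η[A₀].left (IsLocalRing.closedPoint k), by rw [← AbRigid.left_comp_apply, IsMonHom.one_hom]⟩)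
          rintro _ ⟨z, rfl⟩
          have hz : j₀ = toUnit A₀ ≫ η[A] := by
            rw [← Category.id_comp j₀, h1, MonObj.one_comp, Hom.one_def]
          rw [hz, AbRigid.left_comp_apply]
          exact congrArg η[A].left (Subsingleton.elim (α := PrimeSpectrum k) _ _)
        rw [← e]
        exact j₀.left.isOpenEmbedding.isOpen_range
      haveI := hfin
      haveI : Finite A.left := by
        have h : A.hom ⁻¹' {IsLocalRing.closedPoint k} = Set.univ :=
          Set.eq_univ_of_forall fun x => Subsingleton.elim (α := Spec (CommRingCat.of k)) _ _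
        exact Set.finite_univ_iff.mp (h ▸ A.hom.finite_preimage_singleton _)
      haveI : JacobsonSpace A.left := LocallyOfFiniteType.jacobsonSpace A.hom
      haveI : DiscreteTopology A.left := inferInstance
      haveI : Nonempty A.left := ⟨η[A].left (IsLocalRing.closedPoint k)⟩
      exact not_le_of_gt hdim (topologicalKrullDim_zero_of_discreteTopology A.left)
  -- the quotient is finite
  have hfin : IsFinite Q.hom := by
    refine (CharTorus15.finite_of_isOpen_one ?_).2
    have e : Set.range j.left = {η[R].left (IsLocalRing.closedPoint k)} := by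
      refine Set.Subset.antisymm ?_ (by
        rintro _ rfl
        exact ⟨η[B].left (IsLocalRing.closedPoint k), by rw [← AbRigid.left_comp_apply, IsMonHom.one_hom]⟩)
      rintro _ ⟨z, rfl⟩
      have hz : j = toUnit B ≫ η[R] := by rw [← Category.id_comp j, hB1, MonObj.one_comp, Hom.one_def]
      rw [hz, AbRigid.left_comp_apply]
      exact congrArg η[R].left (Subsingleton.elim (α := PrimeSpectrum k) _ _)
    have hop : IsOpen ({η[R].left (IsLocalRing.closedPoint k)} : Set R.left) := e ▸ j.left.isOpenEmbedding.isOpen_range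
    have e2 : ({η[Q].left (IsLocalRing.closedPoint k)} : Set Q.left) =
        ρ.left '' {η[R].left (IsLocalRing.closedPoint k)} := by
      rw [Set.image_singleton, ← AbRigid.left_comp_apply, IsMonHom.one_hom]
    rw [e2]
    exact (ρ.left.isClosedEmbedding.isInducing.isOpenMap (by rw [ρ.left.surjective.range_eq]; exact isOpen_univ)) _ hop
  haveI := hfin
  exact hasExp_ext h q hk hHe (hasExp_of_isFinite Q)

end Closed

end Groth.Agent.Semiab15
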