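import Groth.Agent.Lib.Semiab15.AntiAff
import Groth.Agent.Lib.FrobPull22.Frobenius
import Groth.Agent.Lib.FrobPull22.Exists
import Groth.Agent.Lib.TateCons19.Frob
import Groth.Agent.Lib.AVDegree22.IrrMinpoly
import Groth.Agent.Lib.TorusField29.Galois
import Groth.Agent.Lib.MTRigid29.SpMultType

/-!
# Anti-affine groups over finite fields are proper
-/

set_option autoImplicit false
set_option maxSynthPendingDepth 3
set_option backward.isDefEq.respectTransparency false

universe u

open CategoryTheory CategoryTheory.Limits MonoidalCategory CartesianMonoidalCategory MonObj GrpObj AlgebraicGeometry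
open scoped TensorProduct

noncomputable section

namespace Groth.Agent.Semiab15

variable {k : Type u} [Field k]

/-- Over a finite field, Frobenius minus the order of the field divides a positive integer. -/
theorem exists_quasi_inverse [Finite k] {A : Over (Spec (CommRingCat.of k))} [GrpObj A] [IsCommMonObj A]
    [IsProper A.hom] [GeometricallyIntegral A.hom] (π : A ⟶ A) [IsMonHom π]
    (hle : ∀ U : A.left.Opens, U ≤ π.left ⁻¹ᵁ U)
    (happ : ∀ (U : A.left.Opens) (s : Γ(A.left, U)), (π.left.appLE U U (hle U)).hom s = s ^ Nat.card k) :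
    ∃ (n : ℕ) (v : A ⟶ A), 0 < n ∧ v ≫ (π * (𝟙 A ^ Nat.card k)⁻¹) = 𝟙 A ^ n := by
  have hq : 2 ≤ Nat.card k := Finite.one_lt_card
  set q := Nat.card k with hqdef
  let a : EndAV.End A := EndAV.End.of π
  set m := minpoly ℚ (EndAV.toEnd0 a) with hm
  obtain ⟨-, hroot⟩ := FrobPull22.minpoly_frobenius π hle (q := q) (by omega) happ
  have hmq : m.eval (q : ℚ) ≠ 0 := by
    intro h
    have h1 := hroot (q : ℂ) (by
      rw [Polynomial.IsRoot.def, show (q : ℂ) = algebraMap ℚ ℂ (q : ℚ) by simp,
        Polynomial.eval_map_algebraMap, Polynomial.aeval_algebraMap_apply, Polynomial.coe_aeval_eq_eval]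
      rw [← hm, h, map_zero])
    rw [Complex.norm_natCast] at h1
    have h2 : (2 : ℝ) ≤ (q : ℝ) := by exact_mod_cast hq
    have h3 : Real.sqrt (q : ℝ) * Real.sqrt (q : ℝ) = (q : ℝ) := Real.mul_self_sqrt (Nat.cast_nonneg q)
    rw [← h1] at h3
    nlinarith
  obtain ⟨r, hr⟩ := Polynomial.X_sub_C_dvd_sub_C_eval (a := (q : ℚ)) (p := m)
  have h0 := congrArg (Polynomial.aeval (EndAV.toEnd0 a)) hr
  simp only [map_sub, map_mul, Polynomial.aeval_X, Polynomial.aeval_C, hm, minpoly.aeval, zero_sub] at h0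
  let x : EndAV.End0 A := (-(m.eval (q : ℚ))⁻¹) • Polynomial.aeval (EndAV.toEnd0 a) r
  have hx : (EndAV.toEnd0 a - algebraMap ℚ _ (q : ℚ)) * x = 1 := by
    show _ * ((-(m.eval (q : ℚ))⁻¹) • _) = _
    rw [mul_smul_comm, ← h0, neg_smul, smul_neg, neg_neg, ← hm, Algebra.smul_def, ← map_mul,
      inv_mul_cancel₀ hmq, map_one]
  obtain ⟨n, hn, h, hnh⟩ := FrobPull22.exists_nat_smul_eq_one_tmul x
  have key : (a - (q : EndAV.End A)) * h = (n : EndAV.End A) := by
    apply AVDegree22.toEnd0_injective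
    rw [map_mul, map_sub, map_natCast, map_natCast, EndAV.toEnd0_apply h, ← hnh]
    rw [map_natCast] at hx
    rw [mul_smul_comm, hx, Algebra.smul_def, _root_.mul_one, map_natCast]
  refine ⟨n, h.toHom, Nat.pos_of_ne_zero hn, ?_⟩
  have h2 := congrArg EndAV.End.toHom key
  rw [EndAV.End.toHom_natCast] at h2
  rw [← h2]
  show _ = h.toHom ≫ (a - (q : EndAV.End A)).toHom
  congr 1
  show _ = a.toHom / (q : EndAV.End A).toHom
  rw [EndAV.End.toHom_natCast, div_eq_mul_inv]
  rfl

/-- The Frobenius of a split torus is the power map. -/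
theorem frob_chars [Finite k] {T : Over (Spec (CommRingCat.of k))} [GrpObj T] {M : Type} [AddCommGroup M]
    (C : DiagGL.Chars M T) (F : T ⟶ T) (hle : ∀ U : T.left.Opens, U ≤ F.left ⁻¹ᵁ U)
    (happ : ∀ (U : T.left.Opens) (s : Γ(T.left, U)), (F.left.appLE U U (hle U)).hom s = s ^ Nat.card k) :
    F = 𝟙 T ^ Nat.card k := by
  refine C.inj fun a => ?_
  have hpow : ∀ n : ℕ, C.ch ((𝟙 T : T ⟶ T) ^ n) a = C.ch (𝟙 T) a ^ n := fun n => by
    induction n with
    | zero =>
      rw [pow_zero, pow_zero]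
      have hu : IsUnit (C.ch (1 : T ⟶ T) a) := (Group.isUnit a).map _
      have := C.mul (1 : T ⟶ T) 1 a
      rw [_root_.mul_one] at this
      exact hu.mul_left_cancel (this.symm.trans (_root_.mul_one _).symm)
    | succ n ih => rw [pow_succ, pow_succ, C.mul, ih]
  rw [hpow, ← happ]
  conv_lhs => rw [← Category.comp_id F, C.nat]
  rw [Scheme.Hom.appLE]
  simp [Scheme.Hom.appTop]

/-- An anti-affine extension of an abelian variety by a split torus over a finite field is proper. -/
theorem isProper_of_split [Finite k] {G T A : Over (Spec (CommRingCat.of k))} [GrpObj G] [GrpObj T] [GrpObj A]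
    [LocallyOfFiniteType G.hom] [QuasiCompact G.hom] (hG : AA G) {M : Type} [AddCommGroup M] (C : DiagGL.Chars M T)
    (hT : Red.IsTorus T) (i : T ⟶ G) [IsMonHom i] (p : G ⟶ A) [IsMonHom p] [Flat p.left] [Surjective p.left]
    (hk : AlgGrp.IsKernel i p) [IsProper A.hom] [Smooth A.hom] [ConnectedSpace ↥A.left] : IsProper G.hom := by
  obtain ⟨hs, hc, hcm⟩ := aa_props hG
  haveI := hs; haveI := hc; haveI := hcm
  haveI := isCommMonObj_of_isProper A
  haveI := geometricallyIntegral_of_smooth A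
  haveI : QuasiCompact p.left := qc_left p
  haveI := MTExt29.epi_of_cover p
  obtain ⟨FG, hFGm, -, hFGle, hFG⟩ := FrobPull22.exists_frobenius k G
  obtain ⟨FT, hFTm, -, hFTle, hFT⟩ := FrobPull22.exists_frobenius k T
  obtain ⟨FA, hFAm, -, hFAle, hFA⟩ := FrobPull22.exists_frobenius k A
  haveI := hFGm; haveI := hFAm
  have hi : FT ≫ i = i ≫ FG := TateCons19.frob_natural ⟨hFTle, hFT⟩ ⟨hFGle, hFG⟩ i
  have hp : FG ≫ p = p ≫ FA := TateCons19.frob_natural ⟨hFGle, hFG⟩ ⟨hFAle, hFA⟩ p
  obtain ⟨n, v, hn, hv⟩ := exists_quasi_inverse FA hFAle hFA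
  haveI := isMonHom_pow (𝟙 G) (Nat.card k)
  haveI := isMonHom_inv (𝟙 G ^ Nat.card k)
  haveI := isMonHom_mul FG (𝟙 G ^ Nat.card k)⁻¹
  obtain ⟨g, hg, hpg⟩ := CharTorus15.desc_hom i p hk (FG * (𝟙 G ^ Nat.card k)⁻¹) (by
    rw [MonObj.comp_mul, GrpObj.comp_inv, ← hi, frob_chars C FT hFTle hFT, pow_map, mul_inv_cancel])
  haveI := hg
  have hgp : g ≫ p = FA * (𝟙 A ^ Nat.card k)⁻¹ := by
    rw [← cancel_epi p, ← Category.assoc, hpg, MonObj.mul_comp, GrpObj.inv_comp, hp, pow_map, MonObj.comp_mul,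
      GrpObj.comp_inv]
  haveI : Surjective (g ≫ p).left := by
    obtain ⟨-, -, h3⟩ := pow_av A hn
    haveI : Surjective (v.left ≫ (g ≫ p).left) := by rw [← Over.comp_left, hgp, hv]; exact h3
    exact Surjective.of_comp v.left _
  haveI : IsReduced A.left := OrbitTop19.isReduced_of_smooth A.hom
  haveI : Flat (g ≫ p).left := AbRigid.flat_of_surjective_of_isReduced A A (g ≫ p)
  haveI : QuasiCompact (g ≫ p).left := qc_left _
  haveI := MTExt29.epi_of_cover (g ≫ p)
  obtain ⟨K, _, κ, I, _, p', m, -, -, hp', hm, hIc, hIl, hIq, -, hps, -, -, hmc, hpm⟩ := exists_image g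
  haveI := hm; haveI := hIl; haveI := hIq; haveI := hmc; haveI := hps
  obtain ⟨Q, _, c, hcm', hQc, hQl, hQq, hcf, hcs, -, hkc⟩ := exists_quot m
  haveI := hcm'; haveI := hQc; haveI := hQl; haveI := hQq; haveI := hcf; haveI := hcs
  obtain ⟨σ, _, s, t, hsm, hsc, hσ, -, -, hts⟩ := exists_image_torus hT (i ≫ c)
  haveI := hsm; haveI := hsc
  obtain ⟨D, _, δ, hδ, -, -, -, -, -, -, hkδ⟩ := exists_quot s
  haveI := hδ
  obtain ⟨d, hd, hpd⟩ := CharTorus15.desc_hom i p hk (c ≫ δ) (by
    rw [← Category.assoc, ← hts, Category.assoc, CharTorus15.comp_eq_one hkδ, MonObj.comp_one])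
  haveI := hd
  have hd1 : d = 1 := by
    rw [← cancel_epi (g ≫ p), Category.assoc, hpd, MonObj.comp_one, ← hpm, Category.assoc, ← Category.assoc m,
      CharTorus15.comp_eq_one hkc, MonObj.one_comp, MonObj.comp_one]
  haveI : QuasiCompact c.left := qc_left c
  haveI := MTExt29.epi_of_cover c
  have hδ1 : δ = 1 := by
    rw [← cancel_epi c, ← hpd, hd1, MonObj.comp_one, MonObj.comp_one]
  obtain ⟨l, hl⟩ := CharTorus15.exists_lift hkδ (𝟙 Q) (by rw [Category.id_comp, hδ1])
  haveI : Mono s := Over.mono_of_mono_left s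
  haveI : IsIso s := ⟨l, (cancel_mono s).1 (by rw [Category.assoc, hl, Category.comp_id, Category.id_comp]), hl⟩
  haveI : IsIso s.left := (inferInstance : IsIso ((Over.forget _).map s))
  haveI : IsAffineHom σ.hom := (torus_props hσ).2.2.1
  haveI : IsAffine σ.left := isAffine_of_isAffineHom σ.hom
  haveI : IsAffine Q.left := IsAffine.of_isIso (inv s.left)
  have hc1 : c = 1 := hom_affine_eq_one hG c
  obtain ⟨l', hl'⟩ := CharTorus15.exists_lift hkc (𝟙 G) (by rw [Category.id_comp, hc1])
  haveI : Mono m := Over.mono_of_mono_left m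
  haveI : IsIso m := ⟨l', (cancel_mono m).1 (by rw [Category.assoc, hl', Category.comp_id, Category.id_comp]), hl'⟩
  haveI : IsIso m.left := (inferInstance : IsIso ((Over.forget _).map m))
  haveI : Surjective g.left := by rw [← hpm, Over.comp_left]; infer_instance
  haveI : IsSeparated G.hom := AbRigid.isSeparated_of_grpObj G
  haveI : UniversallyClosed (g.left ≫ G.hom) := by rw [Over.w]; infer_instance
  haveI : UniversallyClosed G.hom := UniversallyClosed.of_comp_surjective g.left G.hom
  exact {}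

/-- A torus over a field is split by a finite extension. -/
theorem exists_split_finite {T : Over (Spec (CommRingCat.of k))} [GrpObj T] (hT : Red.IsTorus T) :
    ∃ (L : Type u) (_ : Field L) (_ : Algebra k L) (_ : Module.Finite k L) (r : ℕ),
      Nonempty (DiagGL.Chars (Fin r → ℤ) (Red.bc (Spec.map (CommRingCat.ofHom (algebraMap k L))) T)) := by
  obtain ⟨A, _, _, K, _, _, r, ⟨E⟩, ⟨e⟩⟩ := TorPts21.exists_model hT
  obtain ⟨L, _, _, _, _, ⟨E'⟩⟩ := TorusField29.exists_galois_split (n := r)
    (E.trans (MonoidAlgebra.domCongrBialgEquiv K K MulEquiv.ulift.symm))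
  let C := MTRigid29.IsotrivialNormal.charsBC (E'.trans (MonoidAlgebra.domCongrBialgEquiv L L MulEquiv.ulift))
  exact ⟨L, inferInstance, inferInstance, inferInstance, r,
    ⟨C.transport (((Over.pullback (Spec.map (CommRingCat.ofHom (algebraMap k L)))).mapGrp.mapIso e).symm)⟩⟩

/-- An anti-affine group over a finite field is proper. -/
theorem isProper_of_finite [Finite k] {G : Over (Spec (CommRingCat.of k))} [GrpObj G] [LocallyOfFiniteType G.hom]
    [QuasiCompact G.hom] (hG : AA G) : IsProper G.hom := by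
  obtain ⟨p, hp⟩ := CharP.exists k
  haveI := hp
  haveI : Fact p.Prime := ⟨(CharP.char_is_prime_or_zero k p).resolve_right fun h => by
    subst h
    haveI := CharP.charP_to_charZero k
    exact not_finite k⟩
  obtain ⟨T, _, i, A, _, q, hi, hic, hT, hq, hqs, hqf, hk, hAp, hAs, hAc⟩ := isSA_of_aa p hG
  haveI := hi; haveI := hq; haveI := hqs; haveI := hqf; haveI := hAp; haveI := hAs; haveI := hAc
  obtain ⟨L, _, _, _, r, ⟨C⟩⟩ := exists_split_finite hT
  haveI : Finite L := Module.finite_of_finite k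
  let φ : Spec (CommRingCat.of L) ⟶ Spec (CommRingCat.of k) := Spec.map (CommRingCat.ofHom (algebraMap k L))
  haveI : LocallyOfFiniteType (Red.bc φ G).hom := inferInstanceAs (LocallyOfFiniteType (pullback.snd G.hom φ))
  haveI : QuasiCompact (Red.bc φ G).hom := inferInstanceAs (QuasiCompact (pullback.snd G.hom φ))
  haveI : IsProper (Red.bc φ A).hom := BorelFix21.isProper_bc φ A
  haveI : Smooth (Red.bc φ A).hom := BorelFix21.smooth_bc φ A
  haveI : ConnectedSpace ↥(Red.bc φ A).left := BorelFix21.connectedSpace_bc φ A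
  haveI : Flat ((Over.pullback φ).map q).left :=
    MorphismProperty.of_isPullback (P := @Flat) (BorelFix21.isPullback_bc_map φ q) ‹_›
  haveI : Surjective ((Over.pullback φ).map q).left :=
    MorphismProperty.of_isPullback (P := @Surjective) (BorelFix21.isPullback_bc_map φ q) ‹_›
  haveI : IsSeparated G.hom := AbRigid.isSeparated_of_grpObj G
  haveI : IsProper ((Over.pullback φ).obj G).hom := isProper_of_split (G := Red.bc φ G) ((S19702.result k L G).1 hG) C
    (TorPts21.isTorus_bc φ hT) ((Over.pullback φ).map i) ((Over.pullback φ).map q) (TorusSlice15.isKernel_bc i q hk φ)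
  exact BorelFix21.isProper_of_bc φ

end Groth.Agent.Semiab15
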